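import Groth.Agent.H29Curve.Trdeg
import Groth.Agent.S9612
import Mathlib

/-!
# Bounds for the number of homomorphisms into finite fields
-/

set_option autoImplicit false
universe u v w

noncomputable section

open TensorProduct

namespace Groth.Agent.H27Zeta

theorem card_algHom_le {R A F : Type*} [CommRing R] [CommRing A] [Algebra R A] [Field F] [Finite F]
    [Algebra R F] {s t : ℕ} (y : Fin s → A) (a : Fin t → A) (ha : Algebra.adjoin R (Set.range a) = ⊤)
    (P : Fin t → Polynomial (MvPolynomial (Fin s) R)) (d : Fin t → ℕ) (N : Fin t → R)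
    (hroot : ∀ j, Polynomial.eval₂ (MvPolynomial.aeval y).toRingHom (a j) (P j) = 0)
    (hdeg : ∀ j, (P j).natDegree ≤ d j) (hlead : ∀ j, (P j).coeff (d j) = MvPolynomial.C (N j))
    (hN : ∀ j, algebraMap R F (N j) ≠ 0) :
    Finite (A →ₐ[R] F) ∧ Nat.card (A →ₐ[R] F) ≤ (∏ j, d j) * Nat.card F ^ s := by
  classical
  cases nonempty_fintype F
  let Q : (Fin s → F) → Fin t → Polynomial F := fun v j => (P j).map (MvPolynomial.aeval v).toRingHom
  have hQd : ∀ v j, (Q v j).natDegree ≤ d j := fun v j => Polynomial.natDegree_map_le.trans (hdeg j)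
  have hQ0 : ∀ v j, Q v j ≠ 0 := fun v j h => by
    have := congrArg (fun p => Polynomial.coeff p (d j)) h
    simp only [Q, Polynomial.coeff_map, hlead, Polynomial.coeff_zero] at this
    exact hN j (by simpa using this)
  let S : Finset ((Fin s → F) × (Fin t → F)) :=
    (Finset.univ : Finset (Fin s → F)).biUnion fun v =>
      (Fintype.piFinset fun j => (Q v j).roots.toFinset).image fun w => (v, w)
  let Φ : (A →ₐ[R] F) → (Fin s → F) × (Fin t → F) := fun φ => (φ ∘ y, φ ∘ a)
  have hΦ : Function.Injective Φ := fun φ φ' h => by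
    refine AlgHom.ext_of_adjoin_eq_top ha ?_
    rintro _ ⟨j, rfl⟩
    exact congrFun (congrArg Prod.snd h) j
  have hmem : ∀ φ, Φ φ ∈ S := by
    intro φ
    refine Finset.mem_biUnion.mpr ⟨φ ∘ y, Finset.mem_univ _, Finset.mem_image.mpr ⟨φ ∘ a, ?_, rfl⟩⟩
    refine Fintype.mem_piFinset.mpr fun j => Multiset.mem_toFinset.mpr ?_
    rw [Polynomial.mem_roots (hQ0 _ j), Polynomial.IsRoot, Polynomial.eval_map]
    have he : (MvPolynomial.aeval (φ ∘ y)).toRingHom = φ.toRingHom.comp (MvPolynomial.aeval y).toRingHom :=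
      congrArg AlgHom.toRingHom (MvPolynomial.comp_aeval y φ).symm
    rw [he]
    refine (Polynomial.hom_eval₂ (P j) _ φ.toRingHom (a j)).symm.trans ?_
    rw [hroot, map_zero]
  haveI : Finite (A →ₐ[R] F) := Finite.of_injective Φ hΦ
  refine ⟨inferInstance, ?_⟩
  calc Nat.card (A →ₐ[R] F) ≤ Nat.card S :=
        Nat.card_le_card_of_injective (fun φ => (⟨Φ φ, hmem φ⟩ : S))
          fun φ φ' h => hΦ (congrArg Subtype.val h)
    _ = S.card := Nat.card_eq_finsetCard S
    _ ≤ ∑ _v : Fin s → F, ∏ j, d j := by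
        refine Finset.card_biUnion_le.trans (Finset.sum_le_sum fun v _ => Finset.card_image_le.trans ?_)
        rw [Fintype.card_piFinset]
        exact Finset.prod_le_prod' fun j _ =>
          (Multiset.toFinset_card_le _).trans ((Polynomial.card_roots' _).trans (hQd v j))
    _ = (∏ j, d j) * Nat.card F ^ s := by
        rw [Finset.sum_const, Finset.card_univ, smul_eq_mul, mul_comm, Fintype.card_fun,
          Fintype.card_fin, Nat.card_eq_fintype_card]

theorem exists_clear {R K : Type*} [CommRing R] [IsDomain R] [Field K] [Algebra R K] [IsFractionRing R K]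
    {σ : Type*} (p : MvPolynomial σ K) :
    ∃ r : R, r ≠ 0 ∧ ∃ p' : MvPolynomial σ R,
      MvPolynomial.map (algebraMap R K) p' = MvPolynomial.C (algebraMap R K r) * p := by
  induction p using MvPolynomial.induction_on with
  | C c =>
    obtain ⟨a, b, hb, rfl⟩ := IsFractionRing.div_surjective R c
    have hb0 : algebraMap R K b ≠ 0 := IsFractionRing.to_map_ne_zero_of_mem_nonZeroDivisors hb
    refine ⟨b, nonZeroDivisors.ne_zero hb, MvPolynomial.C a, ?_⟩
    rw [MvPolynomial.map_C, ← map_mul, mul_div_cancel₀ _ hb0]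
  | add p q hp hq =>
    obtain ⟨r, hr, p', hp'⟩ := hp
    obtain ⟨s, hs, q', hq'⟩ := hq
    refine ⟨r * s, mul_ne_zero hr hs, MvPolynomial.C s * p' + MvPolynomial.C r * q', ?_⟩
    rw [map_add, map_mul, map_mul, MvPolynomial.map_C, MvPolynomial.map_C, hp', hq', map_mul, map_mul]
    ring
  | mul_X p i hp =>
    obtain ⟨r, hr, p', hp'⟩ := hp
    exact ⟨r, hr, p' * MvPolynomial.X i, by rw [map_mul, MvPolynomial.map_X, hp', mul_assoc]⟩

theorem exists_bound {R : Type w} [CommRing R] [IsDomain R] (A : Type u) [CommRing A] [Algebra R A]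
    [Algebra.FiniteType R A] (n : ℕ)
    (hn : ringKrullDim (FractionRing R ⊗[R] A) ≤ (n : WithBot ℕ∞)) :
    ∃ (N : R) (c : ℕ), N ≠ 0 ∧ ∀ (F : Type v) [Field F] [Finite F] [Algebra R F], algebraMap R F N ≠ 0 →
      Finite (A →ₐ[R] F) ∧ Nat.card (A →ₐ[R] F) ≤ c * Nat.card F ^ n := by
  classical
  set K := FractionRing R
  let inc : A →ₐ[R] K ⊗[R] A := Algebra.TensorProduct.includeRight
  haveI : IsLocalizedModule (nonZeroDivisors R) inc.toLinearMap :=
    (isLocalizedModule_iff_isBaseChange (nonZeroDivisors R) K _).mpr (TensorProduct.isBaseChange R A K)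
  have hzero : ∀ x : A, inc x = 0 → ∃ r : R, r ≠ 0 ∧ r • x = 0 := by
    intro x hx
    obtain ⟨c, hc⟩ := (IsLocalizedModule.eq_zero_iff (nonZeroDivisors R) inc.toLinearMap).mp hx
    exact ⟨c, nonZeroDivisors.ne_zero c.2, hc⟩
  have hsurj : ∀ z : K ⊗[R] A, ∃ (r : R) (x : A), r ≠ 0 ∧ r • z = inc x := by
    intro z
    obtain ⟨⟨x, c⟩, hc⟩ := IsLocalizedModule.surj (nonZeroDivisors R) inc.toLinearMap z
    exact ⟨c, x, nonZeroDivisors.ne_zero c.2, hc⟩
  rcases subsingleton_or_nontrivial (K ⊗[R] A) with hB | hB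
  · obtain ⟨r, hr, h⟩ := hzero 1 (Subsingleton.elim _ _)
    refine ⟨r, 0, hr, fun F _ _ _ hrF => ?_⟩
    have hem : IsEmpty (A →ₐ[R] F) := ⟨fun φ => hrF (by
      have := congrArg φ h
      rwa [map_smul, map_one, map_zero, ← Algebra.algebraMap_eq_smul_one] at this)⟩
    exact ⟨inferInstance, by simp⟩
  obtain ⟨s, g, hg, hfin⟩ := exists_finite_inj_algHom_of_fg K (K ⊗[R] A)
  have hint : g.toRingHom.IsIntegral := RingHom.IsIntegral.of_finite hfin
  have hs : s ≤ n := by
    have h := (Groth.Agent.H29Curve.ringKrullDim_le_of_isIntegral g.toRingHom hint hg).trans hn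
    rw [MvPolynomial.ringKrullDim_of_isNoetherianRing, ringKrullDim_eq_zero_of_field, zero_add,
      Nat.card_fin] at h
    exact_mod_cast h
  choose ρ y hρ hy using fun i => hsurj (g (MvPolynomial.X i))
  have hρK : ∀ i, algebraMap R K (ρ i) ≠ 0 := fun i =>
    (map_ne_zero_iff _ (IsFractionRing.injective R K)).mpr (hρ i)
  let g' : MvPolynomial (Fin s) K →ₐ[K] K ⊗[R] A := MvPolynomial.aeval fun i => inc (y i)
  let sc : MvPolynomial (Fin s) K →ₐ[K] MvPolynomial (Fin s) K :=
    MvPolynomial.aeval fun i => MvPolynomial.C (algebraMap R K (ρ i))⁻¹ * MvPolynomial.X i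
  have hg' : g'.comp sc = g := by
    refine MvPolynomial.algHom_ext fun i => ?_
    simp only [g', sc, AlgHom.comp_apply, MvPolynomial.aeval_X, map_mul, MvPolynomial.aeval_C, ← hy]
    have e : ρ i • g (MvPolynomial.X i) =
        algebraMap K (K ⊗[R] A) (algebraMap R K (ρ i)) * g (MvPolynomial.X i) := by
      rw [← IsScalarTower.algebraMap_apply R K, Algebra.algebraMap_eq_smul_one, smul_mul_assoc, one_mul]
    rw [e, ← mul_assoc, ← map_mul, inv_mul_cancel₀ (hρK i), map_one, one_mul]
  obtain ⟨T, hT⟩ := Algebra.FiniteType.out (R := R) (A := A)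
  let a : Fin T.card → A := fun j => (T.equivFin.symm j : A)
  have ha : Algebra.adjoin R (Set.range a) = ⊤ := by
    rw [← hT]
    congr 1
    ext x
    exact ⟨fun ⟨j, hj⟩ => hj ▸ (T.equivFin.symm j).2, fun hx => ⟨T.equivFin ⟨x, hx⟩, by simp [a]⟩⟩
  have key : ∀ j, ∃ (d : ℕ) (N : R) (P : Polynomial (MvPolynomial (Fin s) R)), N ≠ 0 ∧ P.natDegree ≤ d ∧
      P.coeff d = MvPolynomial.C N ∧ Polynomial.eval₂ (MvPolynomial.aeval y).toRingHom (a j) P = 0 := by
    intro j
    obtain ⟨Q₀, hQ₀, hQ₀a⟩ := hint (inc (a j))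
    set Q := Q₀.map sc.toRingHom
    have hQ : Q.Monic := hQ₀.map _
    have hQa : Polynomial.eval₂ g'.toRingHom (inc (a j)) Q = 0 := by
      rw [Polynomial.eval₂_map, show g'.toRingHom.comp sc.toRingHom = g.toRingHom from
        congrArg AlgHom.toRingHom hg']
      exact hQ₀a
    choose r hr p hp using fun i : ℕ => exists_clear (R := R) (Q.coeff i)
    set d := Q.natDegree
    set N := ∏ i ∈ Finset.range d, r i
    let P : Polynomial (MvPolynomial (Fin s) R) := Polynomial.C (MvPolynomial.C N) * Polynomial.X ^ d +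
      ∑ i ∈ Finset.range d, Polynomial.C (MvPolynomial.C (∏ l ∈ (Finset.range d).erase i, r l) * p i) * Polynomial.X ^ i
    have hPmap : P.map (MvPolynomial.map (algebraMap R K)) =
        Polynomial.C (MvPolynomial.C (algebraMap R K N)) * Q := by
      conv_rhs => rw [hQ.as_sum, mul_add, Finset.mul_sum]
      simp only [P, Polynomial.map_add, Polynomial.map_sum, Polynomial.map_mul, Polynomial.map_C,
        Polynomial.map_pow, Polynomial.map_X, map_mul, MvPolynomial.map_C, hp]
      congr 1
      refine Finset.sum_congr rfl fun i hi => ?_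
      simp only [← mul_assoc, ← map_mul]
      congr 4
      exact congrArg (algebraMap R K) (Finset.prod_erase_mul _ r hi)
    have hinc : inc.toRingHom.comp (MvPolynomial.aeval y).toRingHom =
        g'.toRingHom.comp (MvPolynomial.map (algebraMap R K)) := by
      refine MvPolynomial.ringHom_ext (fun c => ?_) (fun i => ?_)
      · simp only [RingHom.comp_apply, AlgHom.toRingHom_eq_coe, RingHom.coe_coe, MvPolynomial.map_C,
          MvPolynomial.aeval_C, AlgHom.commutes, g', ← IsScalarTower.algebraMap_apply]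
      · simp [g']
    have hz : inc (Polynomial.eval₂ (MvPolynomial.aeval y).toRingHom (a j) P) = 0 := by
      refine (Polynomial.hom_eval₂ P _ inc.toRingHom (a j)).trans ?_
      rw [hinc, ← Polynomial.eval₂_map, hPmap, Polynomial.eval₂_mul]
      erw [hQa]
      rw [mul_zero]
    obtain ⟨c, hc, hc0⟩ := hzero _ hz
    refine ⟨d, c * N, Polynomial.C (MvPolynomial.C c) * P, mul_ne_zero hc
      (Finset.prod_ne_zero_iff.mpr fun i _ => hr i), ?_, ?_, ?_⟩
    · refine (Polynomial.natDegree_C_mul_le _ _).trans ((Polynomial.natDegree_add_le _ _).trans (max_le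
        (Polynomial.natDegree_C_mul_X_pow_le _ _) (Polynomial.natDegree_sum_le_of_forall_le _ _ fun i hi =>
          (Polynomial.natDegree_C_mul_X_pow_le _ _).trans (Finset.mem_range.mp hi).le)))
    · rw [Polynomial.coeff_C_mul, Polynomial.coeff_add, Polynomial.finsetSum_coeff,
        Polynomial.coeff_C_mul_X_pow, if_pos rfl, Finset.sum_eq_zero fun i hi => by
          rw [Polynomial.coeff_C_mul_X_pow, if_neg (by rw [Finset.mem_range] at hi; omega)],
        add_zero, ← map_mul]
    · rw [Polynomial.eval₂_mul, Polynomial.eval₂_C]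
      simp only [AlgHom.toRingHom_eq_coe, RingHom.coe_coe, MvPolynomial.aeval_C] at hc0 ⊢
      rw [← Algebra.smul_def, hc0]
  choose d N P hN0 hPd hPl hPr using key
  refine ⟨∏ j, N j, ∏ j, d j, Finset.prod_ne_zero_iff.mpr fun j _ => hN0 j, fun F _ _ _ hNF => ?_⟩
  have hNj : ∀ j, algebraMap R F (N j) ≠ 0 := by
    rw [map_prod, Finset.prod_ne_zero_iff] at hNF
    exact fun j => hNF j (Finset.mem_univ j)
  obtain ⟨h1, h2⟩ := card_algHom_le (F := F) y a ha P d N hPr hPd hPl hNj
  exact ⟨h1, h2.trans (Nat.mul_le_mul_left _ (Nat.pow_le_pow_right Nat.card_pos hs))⟩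

/-! ## Finitely generated algebras over the integers -/

theorem ker_isMaximal_int (L : Type u) [Field L] [Algebra.FiniteType ℤ L] :
    (RingHom.ker (algebraMap ℤ L)).IsMaximal := by
  haveI : IsJacobsonRing ℤ := Groth.Agent.S9612.result
  obtain ⟨n, f, hf⟩ := Algebra.FiniteType.iff_quotient_mvPolynomial''.mp
    (inferInstance : Algebra.FiniteType ℤ L)
  have h := MvPolynomial.comp_C_integral_of_surjective_of_isJacobsonRing f.toRingHom hf
  have he : f.toRingHom.comp MvPolynomial.C = algebraMap ℤ L := RingHom.ext fun r => f.commutes r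
  rw [he] at h
  exact Ideal.isMaximal_comap_of_isIntegral_of_isMaximal' (algebraMap ℤ L) h ⊥

theorem finite_of_field_finiteType_int (L : Type u) [Field L] [Algebra.FiniteType ℤ L] :
    Finite L := by
  haveI : IsJacobsonRing ℤ := Groth.Agent.S9612.result
  have hm := ker_isMaximal_int L
  obtain ⟨n, f, hf⟩ := Algebra.FiniteType.iff_quotient_mvPolynomial''.mp
    (inferInstance : Algebra.FiniteType ℤ L)
  have h := MvPolynomial.comp_C_integral_of_surjective_of_isJacobsonRing f.toRingHom hf
  rw [show f.toRingHom.comp MvPolynomial.C = algebraMap ℤ L from RingHom.ext fun r => f.commutes r] at h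
  haveI : Algebra.IsIntegral ℤ L := ⟨h⟩
  haveI hF : @Module.Finite ℤ L _ _ Algebra.toModule := Algebra.IsIntegral.finite
  have hne : RingHom.ker (algebraMap ℤ L) ≠ ⊥ := fun h0 => by
    rw [h0] at hm
    haveI := hm
    exact Int.not_isField (MulEquiv.isField ((Ideal.Quotient.maximal_ideal_iff_isField_quotient ⊥).mp hm) (RingEquiv.quotientBot ℤ).symm.toMulEquiv)
  obtain ⟨N, hN, hN0⟩ := Submodule.exists_mem_ne_zero_of_ne_bot hne
  haveI : AddGroup.FG L := Module.Finite.iff_addGroup_fg.mp inferInstance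
  refine AddCommGroup.finite_of_fg_torsion L fun x => ?_
  refine isOfFinAddOrder_iff_nsmul_eq_zero.mpr ⟨N.natAbs, Int.natAbs_pos.mpr hN0, ?_⟩
  have : (N : L) = 0 := by simpa using hN
  rcases Int.natAbs_eq N with h | h <;> rw [h] at this <;> simpa using Or.inl this

theorem dim_generic_le {R : Type w} [CommRing R] [IsDomain R] (A : Type u) [CommRing A] [Algebra R A]
    (hmax : ∀ m : Ideal A, m.IsMaximal → m.comap (algebraMap R A) ≠ ⊥) (n : ℕ)
    (hn : ringKrullDim A ≤ (n : WithBot ℕ∞)) :
    (1 ≤ n ∧ ringKrullDim (FractionRing R ⊗[R] A) ≤ ((n - 1 : ℕ) : WithBot ℕ∞)) ∨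
      Subsingleton (FractionRing R ⊗[R] A) := by
  rcases subsingleton_or_nontrivial (FractionRing R ⊗[R] A) with hB | hB
  · exact Or.inr hB
  left
  set B := FractionRing R ⊗[R] A
  let inc : A →ₐ[R] B := Algebra.TensorProduct.includeRight
  haveI : IsLocalizedModule (nonZeroDivisors R) inc.toLinearMap :=
    (isLocalizedModule_iff_isBaseChange (nonZeroDivisors R) (FractionRing R) _).mpr
      (TensorProduct.isBaseChange R A (FractionRing R))
  have hunit : ∀ n : R, n ≠ 0 → IsUnit (algebraMap R B n) := fun n hn => by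
    rw [IsScalarTower.algebraMap_apply R (FractionRing R) B]
    exact (isUnit_iff_ne_zero.mpr ((map_ne_zero_iff _ (IsFractionRing.injective R (FractionRing R))).mpr hn)).map _
  let c : PrimeSpectrum B → PrimeSpectrum A := PrimeSpectrum.comap inc.toRingHom
  have hmono : StrictMono c := by
    intro q q' hlt
    refine lt_of_le_not_ge (Ideal.comap_mono hlt.le) fun hge => ?_
    obtain ⟨z, hz, hz'⟩ := SetLike.exists_of_lt (show q.asIdeal < q'.asIdeal from hlt)
    obtain ⟨⟨x, n⟩, hx⟩ := IsLocalizedModule.surj (nonZeroDivisors R) inc.toLinearMap z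
    have hx' : inc x = algebraMap R B n * z := by rw [← Algebra.smul_def]; exact hx.symm
    have : x ∈ (c q).asIdeal := hge (show inc x ∈ q'.asIdeal by rw [hx']; exact Ideal.mul_mem_left _ _ hz)
    have hmem : algebraMap R B n * z ∈ q.asIdeal := hx' ▸ this
    exact hz' (((q.isPrime.mem_or_mem hmem)).resolve_left fun h =>
      q.isPrime.ne_top (Ideal.eq_top_of_isUnit_mem _ h (hunit n (nonZeroDivisors.ne_zero n.2))))
  have hnotmax : ∀ q, ¬ (c q).asIdeal.IsMaximal := by
    intro q hm
    obtain ⟨r, hr, hr0⟩ := Submodule.exists_mem_ne_zero_of_ne_bot (hmax _ hm)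
    have h2 : algebraMap R B r ∈ q.asIdeal := by
      have : inc (algebraMap R A r) ∈ q.asIdeal := hr
      rwa [AlgHom.commutes] at this
    exact q.isPrime.ne_top (Ideal.eq_top_of_isUnit_mem _ h2 (hunit _ hr0))
  have hlen : ∀ l : LTSeries (PrimeSpectrum B), l.length + 1 ≤ n := by
    intro l
    obtain ⟨M, hM, hle⟩ := Ideal.exists_le_maximal (c l.last).asIdeal (c l.last).isPrime.ne_top
    have hlt : c l.last < ⟨M, hM.isPrime⟩ := by
      refine lt_of_le_of_ne hle fun h => hnotmax l.last ?_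
      rw [h]; exact hM
    let l' : LTSeries (PrimeSpectrum A) :=
      (l.map c hmono).snoc ⟨M, hM.isPrime⟩ (by rw [LTSeries.last_map]; exact hlt)
    have h1 : ((l'.length : ℕ) : WithBot ℕ∞) ≤ ringKrullDim A := Order.LTSeries.length_le_krullDim l'
    have h2 := h1.trans hn
    have h3 : l'.length ≤ n := by exact_mod_cast h2
    simpa [l'] using h3
  refine ⟨?_, iSup_le fun l => ?_⟩
  · have := hlen (RelSeries.singleton _ (Classical.arbitrary (PrimeSpectrum B)))
    simp at this ⊢
    omega
  · have := hlen l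
    exact_mod_cast (by omega : l.length ≤ n - 1)

/-- Over a base all of whose points below closed points are nonzero, the exponent drops by one for almost
all characteristics. -/
theorem exists_bound_vertical {R : Type w} [CommRing R] [IsDomain R] (A : Type u) [CommRing A] [Algebra R A]
    [Algebra.FiniteType R A] (hmax : ∀ m : Ideal A, m.IsMaximal → m.comap (algebraMap R A) ≠ ⊥) (n : ℕ)
    (hn : ringKrullDim A ≤ (n : WithBot ℕ∞)) :
    ∃ (N : R) (c : ℕ), N ≠ 0 ∧ (n = 0 → c = 0) ∧ ∀ (F : Type v) [Field F] [Finite F] [Algebra R F],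
      algebraMap R F N ≠ 0 → Finite (A →ₐ[R] F) ∧ Nat.card (A →ₐ[R] F) ≤ c * Nat.card F ^ (n - 1) := by
  rcases dim_generic_le A hmax n hn with ⟨h1, h2⟩ | h
  · obtain ⟨N, c, hN, hc⟩ := exists_bound.{u, v, w} A (n - 1) h2
    exact ⟨N, c, hN, fun h0 => absurd h0 (by omega), hc⟩
  · have hinc : (Algebra.TensorProduct.includeRight : A →ₐ[R] FractionRing R ⊗[R] A) 1 = 0 :=
      Subsingleton.elim _ _
    haveI : IsLocalizedModule (nonZeroDivisors R)
        (Algebra.TensorProduct.includeRight : A →ₐ[R] FractionRing R ⊗[R] A).toLinearMap :=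
      (isLocalizedModule_iff_isBaseChange (nonZeroDivisors R) (FractionRing R) _).mpr
        (TensorProduct.isBaseChange R A (FractionRing R))
    obtain ⟨⟨r, hr⟩, hr1⟩ := (IsLocalizedModule.eq_zero_iff (nonZeroDivisors R)
      (Algebra.TensorProduct.includeRight : A →ₐ[R] FractionRing R ⊗[R] A).toLinearMap).mp hinc
    refine ⟨r, 0, nonZeroDivisors.ne_zero hr, fun _ => rfl, fun F _ _ _ hrF => ?_⟩
    have hem : IsEmpty (A →ₐ[R] F) := ⟨fun φ => hrF (by
      have := congrArg φ (show r • (1 : A) = 0 from hr1)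
      rwa [map_smul, map_one, map_zero, ← Algebra.algebraMap_eq_smul_one] at this)⟩
    exact ⟨inferInstance, by simp⟩

theorem comap_maximal_int (A : Type u) [CommRing A] [Algebra.FiniteType ℤ A] (m : Ideal A)
    (hm : m.IsMaximal) : m.comap (algebraMap ℤ A) ≠ ⊥ := by
  have hft : Algebra.FiniteType ℤ (A ⧸ m) :=
    Algebra.FiniteType.of_surjective (Ideal.Quotient.mkₐ ℤ m) (Ideal.Quotient.mkₐ_surjective ℤ m)
  letI : Field (A ⧸ m) := Ideal.Quotient.field m
  haveI : Finite (A ⧸ m) := @finite_of_field_finiteType_int (A ⧸ m) _ (by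
    convert hft using 1
    all_goals first | rfl | subsingleton)
  cases nonempty_fintype (A ⧸ m)
  intro h
  have h1 : (Fintype.card (A ⧸ m) : ℤ) ∈ m.comap (algebraMap ℤ A) := by
    rw [Ideal.mem_comap, ← Ideal.Quotient.eq_zero_iff_mem, map_natCast, map_natCast]
    exact Nat.cast_card_eq_zero _
  rw [h, Ideal.mem_bot] at h1
  exact Fintype.card_ne_zero (by exact_mod_cast h1)

end Groth.Agent.H27Zeta
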