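import Mathlib

/-! Perfect pairings and determinants. -/

open Module

namespace Groth.Agent.H27Zeta

variable {L V W : Type*} [Field L] [AddCommGroup V] [Module L V] [FiniteDimensional L V]
  [AddCommGroup W] [Module L W] [FiniteDimensional L W]
  (B : V →ₗ[L] W →ₗ[L] L) [B.IsPerfPair] (F : V →ₗ[L] V) (G : W →ₗ[L] W) (c : L)

include B in
lemma finrank_eq_of_pairing : finrank L W = finrank L V :=
  (LinearEquiv.finrank_eq (B.flip.toPerfPair)).trans Subspace.dual_finrank_eq

lemma dualMap_conj (hFG : ∀ v w, B (F v) (G w) = c * B v w) :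
    F.dualMap ∘ₗ ((B.flip.toPerfPair.toLinearMap ∘ₗ G) ∘ₗ B.flip.toPerfPair.symm.toLinearMap) =
      c • LinearMap.id := by
  refine LinearMap.ext fun φ => LinearMap.ext fun v => ?_
  simp only [LinearMap.coe_comp, LinearEquiv.coe_coe, Function.comp_apply,
    LinearMap.dualMap_apply, LinearMap.smul_apply, LinearMap.id_apply, smul_eq_mul,
    LinearMap.toPerfPair_apply, LinearMap.flip_apply]
  rw [hFG, LinearMap.apply_toPerfPair_flip]

theorem det_mul_det (hFG : ∀ v w, B (F v) (G w) = c * B v w) :
    LinearMap.det F * LinearMap.det G = c ^ finrank L V := by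
  have h := congrArg LinearMap.det (dualMap_conj B F G c hFG)
  rw [LinearMap.det_comp, LinearMap.det_dualMap, LinearMap.det_smul, LinearMap.det_id, mul_one,
    Subspace.dual_finrank_eq, LinearMap.comp_assoc, LinearMap.det_conj] at h
  exact h

end Groth.Agent.H27Zeta

namespace Groth.Agent.H27Zeta

variable {L V W : Type*} [Field L] [AddCommGroup V] [Module L V] [FiniteDimensional L V]
  [AddCommGroup W] [Module L W] [FiniteDimensional L W]
  (B : V →ₗ[L] W →ₗ[L] L) [B.IsPerfPair] (F : V →ₗ[L] V) (G : W →ₗ[L] W) (c : L)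

theorem charpoly_pairing (hc : c ≠ 0) (hFG : ∀ v w, B (F v) (G w) = c * B v w) :
    LinearMap.det F • (LinearMap.charpoly G).reverse =
      ((-1) ^ finrank L W * c ^ finrank L W) • (c⁻¹ • F).charpoly := by
  classical
  set b := Module.finBasis L V
  set e : W ≃ₗ[L] Module.Dual L V := LinearMap.toPerfPair B.flip
  set g' : Module.End L (Module.Dual L V) := e.conj G with hg'
  set A := LinearMap.toMatrix b b F with hA
  set N := LinearMap.toMatrix b.dualBasis b.dualBasis g' with hN
  have h1 : A.transpose * N = c • 1 := by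
    have h := congrArg (LinearMap.toMatrix b.dualBasis b.dualBasis) (dualMap_conj B F G c hFG)
    rw [map_smul, LinearMap.toMatrix_id, LinearMap.toMatrix_comp b.dualBasis b.dualBasis b.dualBasis]
      at h
    rw [← h, hA, ← LinearMap.toMatrix_transpose]
    rfl
  have h2 : LinearMap.det F = A.det := (LinearMap.det_toMatrix b F).symm
  have h3 : LinearMap.charpoly G = N.charpoly := by
    rw [hN, LinearMap.charpoly_toMatrix, hg', LinearEquiv.charpoly_conj]
  have hdet : A.det * N.det = c ^ finrank L V := by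
    have := congrArg Matrix.det h1
    rwa [Matrix.det_mul, Matrix.det_transpose, Matrix.det_smul, Matrix.det_one, mul_one,
      Fintype.card_fin] at this
  have hNdet : N.det ≠ 0 := by
    intro h0; rw [h0, mul_zero] at hdet; exact pow_ne_zero _ hc hdet.symm
  have hinv : N⁻¹ = c⁻¹ • A.transpose := Matrix.inv_eq_left_inv (by
    rw [smul_mul_assoc, h1, smul_smul, inv_mul_cancel₀ hc, one_smul])
  have h4 : (c⁻¹ • F).charpoly = N⁻¹.charpoly := by
    rw [hinv, ← Matrix.transpose_smul, Matrix.charpoly_transpose, hA,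
      ← LinearEquiv.map_smul, LinearMap.charpoly_toMatrix]
  rw [finrank_eq_of_pairing B, h2, h3, Matrix.reverse_charpoly, h4,
    Matrix.charpoly_inv N ((Matrix.isUnit_iff_isUnit_det N).2 (isUnit_iff_ne_zero.2 hNdet)),
    Fintype.card_fin, Ring.inverse_eq_inv', Polynomial.smul_eq_C_mul, Polynomial.smul_eq_C_mul]
  have : c ^ finrank L V * (N.det)⁻¹ = A.det := by
    rw [← hdet, mul_assoc, mul_inv_cancel₀ hNdet, mul_one]
  conv_lhs => rw [← this]
  simp only [map_mul, map_pow, map_neg, map_one]
  rw [show ∀ a u i r : Polynomial L, a * u * (a * i * r) = a * a * (u * i * r) by intros; ring,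
    ← mul_pow, neg_one_mul, neg_neg, one_pow, one_mul]

end Groth.Agent.H27Zeta
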