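import Groth.Agent.H27Weil.FrobPoints
import Groth.Prelude.Def_SgaExt
import Groth.Prelude.Def_W4c1zetahwZeta
import Mathlib

/-!
# Points over a finite extension and closed points of given residue degree
-/

set_option autoImplicit false
set_option linter.style.haveILetI false
universe u

noncomputable section

open CategoryTheory AlgebraicGeometry

namespace Groth.Agent.H27Zeta

variable {k : Type u} [Field k] {X : Scheme.{u}}

theorem sigma_ext_of_congr {k' : Type u} [Field k'] [Algebra k k']
    [∀ x : X, Algebra k (X.residueField x)]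
    {a b : Σ x : X, X.residueField x →ₐ[k] k'} (e1 : a.1 = b.1)
    (e2 : CommRingCat.ofHom a.2.toRingHom =
      (X.residueFieldCongr e1).hom ≫ CommRingCat.ofHom b.2.toRingHom) : a = b := by
  obtain ⟨x, θ⟩ := a
  obtain ⟨y, θ'⟩ := b
  change x = y at e1
  subst e1
  change CommRingCat.ofHom θ.toRingHom =
    (X.residueFieldCongr (rfl : x = x)).hom ≫ CommRingCat.ofHom θ'.toRingHom at e2
  have : θ = θ' := AlgHom.coe_ringHom_injective (by
    have h := congrArg CommRingCat.Hom.hom e2
    rw [Scheme.residueFieldCongr_refl, Iso.refl_hom] at h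
    exact RingHom.ext fun t => RingHom.congr_fun h t)
  rw [this]

/-- `k'`-points are pairs of a point and an embedding of its residue field. -/
theorem points_equiv_sigma (f : X ⟶ Spec (CommRingCat.of k)) (k' : Type u) [Field k'] [Algebra k k']
    [∀ x : X, Algebra k (X.residueField x)]
    (halg : ∀ x : X, Spec.map (CommRingCat.ofHom (algebraMap k (X.residueField x))) =
      X.fromSpecResidueField x ≫ f) :
    Nonempty ({g : Spec (CommRingCat.of k') ⟶ X // g ≫ f = Spec.map (CommRingCat.ofHom (algebraMap k k'))} ≃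
      Σ x : X, (X.residueField x →ₐ[k] k')) := by
  have h1 : ∀ (x : X) (θ : X.residueField x ⟶ CommRingCat.of k'),
      ((Spec.map θ ≫ X.fromSpecResidueField x) ≫ f = Spec.map (CommRingCat.ofHom (algebraMap k k')) ↔
        ∀ c, θ.hom (algebraMap k (X.residueField x) c) = algebraMap k k' c) := by
    intro x θ
    rw [Category.assoc, ← halg, ← Spec.map_comp]
    constructor
    · intro h c
      exact RingHom.congr_fun (congrArg CommRingCat.Hom.hom (Spec.map_injective h)) c
    · intro h
      exact congrArg Spec.map (CommRingCat.hom_ext (RingHom.ext h))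
  exact ⟨{
    toFun := fun h =>
      have e := (Scheme.SpecToEquivOfField k' X).symm_apply_apply h.1
      ⟨((Scheme.SpecToEquivOfField k' X) h.1).1,
        { ((Scheme.SpecToEquivOfField k' X) h.1).2.hom with
          commutes' := (h1 _ _).mp ((congrArg (· ≫ f) e).trans h.2) }⟩
    invFun := fun p =>
      ⟨(Scheme.SpecToEquivOfField k' X).symm ⟨p.1, CommRingCat.ofHom p.2.toRingHom⟩,
        (h1 _ _).mpr p.2.commutes⟩
    left_inv := fun h => Subtype.ext ((Scheme.SpecToEquivOfField k' X).symm_apply_apply h.1)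
    right_inv := fun p => by
      obtain ⟨x, θ⟩ := p
      have e := (Scheme.SpecToEquivOfField k' X).apply_symm_apply ⟨x, CommRingCat.ofHom θ.toRingHom⟩
      rw [Scheme.SpecToEquivOfField_eq_iff] at e
      obtain ⟨e1, e2⟩ := e
      exact sigma_ext_of_congr e1 e2 }⟩

/-- A scheme of finite type has finitely many points with values in a finite field. -/
theorem finite_points (f : X ⟶ Spec (CommRingCat.of k)) [LocallyOfFiniteType f] [QuasiCompact f]
    (k' : Type u) [Field k'] [Algebra k k'] [Finite k'] :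
    Finite {g : Spec (CommRingCat.of k') ⟶ X // g ≫ f = Spec.map (CommRingCat.ofHom (algebraMap k k'))} := by
  haveI : CompactSpace X := QuasiCompact.compactSpace_of_compactSpace f
  let 𝒰 := X.affineCover.finiteSubcover
  haveI hU : ∀ i : 𝒰.I₀, Finite {h : Spec (CommRingCat.of k') ⟶ 𝒰.X i //
      h ≫ 𝒰.f i ≫ f = Spec.map (CommRingCat.ofHom (algebraMap k k'))} := by
    intro i
    haveI : IsAffine (𝒰.X i) := by dsimp [𝒰]; infer_instance
    let w : Spec Γ(𝒰.X i, ⊤) ⟶ Spec (CommRingCat.of k) := (𝒰.X i).isoSpec.inv ≫ 𝒰.f i ≫ f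
    let ψ : CommRingCat.of k ⟶ Γ(𝒰.X i, ⊤) := Spec.preimage w
    have hψ : Spec.map ψ = w := Spec.map_preimage w
    haveI : LocallyOfFiniteType (Spec.map ψ) := by rw [hψ]; infer_instance
    have hft : ψ.hom.FiniteType := (HasRingHomProperty.Spec_iff (P := @LocallyOfFiniteType)).mp inferInstance
    letI : Algebra k Γ(𝒰.X i, ⊤) := ψ.hom.toAlgebra
    haveI : Algebra.FiniteType k Γ(𝒰.X i, ⊤) := hft
    haveI : Finite (Γ(𝒰.X i, ⊤) →ₐ[k] k') := by
      obtain ⟨s, hs⟩ := Algebra.FiniteType.out (R := k) (A := Γ(𝒰.X i, ⊤))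
      exact Finite.of_injective (fun (φ : Γ(𝒰.X i, ⊤) →ₐ[k] k') (a : s) => φ a.1)
        fun φ φ' h => AlgHom.ext_of_adjoin_eq_top hs fun a ha => congrFun h ⟨a, ha⟩
    refine Finite.of_surjective (fun φ : Γ(𝒰.X i, ⊤) →ₐ[k] k' =>
      (⟨Spec.map (CommRingCat.ofHom φ.toRingHom) ≫ (𝒰.X i).isoSpec.inv, by
        rw [Category.assoc]
        change Spec.map (CommRingCat.ofHom φ.toRingHom) ≫ w = _
        rw [← hψ, ← Spec.map_comp]
        exact congrArg Spec.map (CommRingCat.hom_ext (RingHom.ext φ.commutes))⟩ :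
        {h : Spec (CommRingCat.of k') ⟶ 𝒰.X i //
          h ≫ 𝒰.f i ≫ f = Spec.map (CommRingCat.ofHom (algebraMap k k'))})) ?_
    rintro ⟨h, hh⟩
    let θ : Γ(𝒰.X i, ⊤) ⟶ CommRingCat.of k' := Spec.preimage (h ≫ (𝒰.X i).isoSpec.hom)
    have hθ : Spec.map θ = h ≫ (𝒰.X i).isoSpec.hom := Spec.map_preimage _
    refine ⟨{ θ.hom with commutes' := fun c => ?_ }, Subtype.ext ?_⟩
    · have : ψ ≫ θ = CommRingCat.ofHom (algebraMap k k') := Spec.map_injective (by
        rw [Spec.map_comp, hψ, hθ, ← hh]; simp [w])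
      exact RingHom.congr_fun (congrArg CommRingCat.Hom.hom this) c
    · show Spec.map θ ≫ _ = h
      rw [hθ, Category.assoc, Iso.hom_inv_id, Category.comp_id]
  refine Finite.of_surjective (fun p : Σ i : 𝒰.I₀, {h : Spec (CommRingCat.of k') ⟶ 𝒰.X i //
      h ≫ 𝒰.f i ≫ f = Spec.map (CommRingCat.ofHom (algebraMap k k'))} =>
    (⟨p.2.1 ≫ 𝒰.f p.1, by rw [Category.assoc]; exact p.2.2⟩ :
      {g : Spec (CommRingCat.of k') ⟶ X // g ≫ f = Spec.map (CommRingCat.ofHom (algebraMap k k'))})) ?_
  rintro ⟨g, hg⟩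
  let pt : ↥(Spec (CommRingCat.of k')) := IsLocalRing.closedPoint k'
  obtain ⟨i, y, hy⟩ := 𝒰.exists_eq (g pt)
  have hr : Set.range g ⊆ Set.range (𝒰.f i) := by
    rintro _ ⟨z, rfl⟩
    rw [Subsingleton.elim z pt]
    exact ⟨y, hy⟩
  refine ⟨⟨i, IsOpenImmersion.lift (𝒰.f i) g hr, ?_⟩, Subtype.ext (IsOpenImmersion.lift_fac _ _ _)⟩
  rw [← Category.assoc, IsOpenImmersion.lift_fac, hg]

/-- The algebra structure on a residue field of a scheme over a field. -/
theorem residueDegree_eq_finrank [Finite k] (f : X ⟶ Spec (CommRingCat.of k))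
    [∀ x : X, Algebra k (X.residueField x)]
    (halg : ∀ x : X, Spec.map (CommRingCat.ofHom (algebraMap k (X.residueField x))) =
      X.fromSpecResidueField x ≫ f) (x : X) :
    EGA4loc.residueDegree f x = Module.finrank k (X.residueField x) := by
  rw [H27Weil.residueDegree_base_eq f x (CommRingCat.ofHom (algebraMap k (X.residueField x))) (halg x),
    H27Weil.finrank_toAlgebra_eq]
  exact (H27Weil.finrank_toAlgebra_eq _).symm.trans (congrArg (fun a : Algebra k (X.residueField x) =>
    @Module.finrank k (X.residueField x) _ _ a.toModule) (Algebra.algebra_ext _ _ fun _ => rfl))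

theorem nonempty_algHom_iff {L k' : Type u} [Field L] [Algebra k L] [Field k'] [Algebra k k'] [Finite k'] :
    Nonempty (L →ₐ[k] k') ↔ Module.finrank k L ∣ Module.finrank k k' := by
  refine ⟨fun ⟨φ⟩ => ?_, FiniteField.nonempty_algHom_of_finrank_dvd⟩
  haveI : Finite L := Finite.of_injective φ φ.toRingHom.injective
  exact FiniteField.nonempty_algHom_iff_finrank_dvd.mp ⟨φ⟩

theorem finite_degCount [Finite k] (f : X ⟶ Spec (CommRingCat.of k)) [LocallyOfFiniteType f]
    [QuasiCompact f] (e : ℕ) (he : e ≠ 0) :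
    {x : X | EGA4loc.residueDegree f x = e}.Finite := by
  letI alg : ∀ x : X, Algebra k (X.residueField x) := fun x =>
    (Spec.preimage (X.fromSpecResidueField x ≫ f) : CommRingCat.of k ⟶ X.residueField x).hom.toAlgebra
  have halg : ∀ x : X, Spec.map (CommRingCat.ofHom (algebraMap k (X.residueField x))) =
      X.fromSpecResidueField x ≫ f := fun x => Spec.map_preimage _
  obtain ⟨p, hp⟩ := CharP.exists k
  haveI : Fact p.Prime := ⟨CharP.char_is_prime k p⟩
  haveI : NeZero e := ⟨he⟩
  let k' := ULift.{u} (FiniteField.Extension k p e)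
  have hdim : Module.finrank k k' = e :=
    (ULift.algEquiv (R := k) (A := FiniteField.Extension k p e)).toLinearEquiv.finrank_eq.trans
      (FiniteField.finrank_extension k p e)
  obtain ⟨eqv⟩ := points_equiv_sigma f k' halg
  haveI := finite_points f k'
  haveI : Finite (Σ x : X, (X.residueField x →ₐ[k] k')) := Finite.of_equiv _ eqv
  refine (Set.finite_range (Sigma.fst : (Σ x : X, (X.residueField x →ₐ[k] k')) → X)).subset fun x hx => ?_
  obtain ⟨φ⟩ := nonempty_algHom_iff.mpr (show Module.finrank k (X.residueField x) ∣ Module.finrank k k' by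
    rw [hdim, ← residueDegree_eq_finrank f halg, hx])
  exact ⟨⟨x, φ⟩, rfl⟩

theorem degCount_eq [Finite k] (f : X ⟶ Spec (CommRingCat.of k)) [LocallyOfFiniteType f] (e : ℕ)
    (he : e ≠ 0) : Zeta.degCount f e = Set.ncard {x : X | EGA4loc.residueDegree f x = e} := by
  rw [← Nat.card_coe_set_eq]
  exact Nat.card_congr (Equiv.subtypeEquivRight fun x =>
    ⟨And.right, fun h => ⟨H27Weil.isClosed_of_finite_residueField (f := f) x (h.trans_ne he), h⟩⟩)

theorem pointCount_eq_nPts [Finite k] (f : X ⟶ Spec (CommRingCat.of k)) [LocallyOfFiniteType f]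
    [QuasiCompact f] (k' : Type u) [Field k'] [Algebra k k'] [Finite k'] :
    SgaExt.pointCount f k' = Zeta.nPts f (Module.finrank k k') := by
  classical
  letI alg : ∀ x : X, Algebra k (X.residueField x) := fun x =>
    (Spec.preimage (X.fromSpecResidueField x ≫ f) : CommRingCat.of k ⟶ X.residueField x).hom.toAlgebra
  have halg : ∀ x : X, Spec.map (CommRingCat.ofHom (algebraMap k (X.residueField x))) =
      X.fromSpecResidueField x ≫ f := fun x => Spec.map_preimage _
  haveI : Module.Finite k k' := Module.Finite.of_finite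
  have hm : Module.finrank k k' ≠ 0 := Module.finrank_pos.ne'
  let S : Finset X := (Module.finrank k k').divisors.attach.biUnion fun e =>
    (finite_degCount f e.1 (Nat.pos_of_mem_divisors e.2).ne').toFinset
  have hS : ∀ x, x ∈ S ↔ Module.finrank k (X.residueField x) ∈ (Module.finrank k k').divisors := by
    intro x
    simp only [S, Finset.mem_biUnion, Finset.mem_attach, Set.Finite.mem_toFinset, true_and, Subtype.exists,
      Set.mem_ofPred_eq, residueDegree_eq_finrank f halg]
    exact ⟨fun ⟨e, he, h⟩ => h ▸ he, fun h => ⟨_, h, rfl⟩⟩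
  have hmem : ∀ (x : X), Nonempty (X.residueField x →ₐ[k] k') → x ∈ S := fun x h =>
    (hS x).mpr (Nat.mem_divisors.mpr ⟨nonempty_algHom_iff.mp h, hm⟩)
  obtain ⟨eqv⟩ := points_equiv_sigma f k' halg
  haveI hfinhom : ∀ x : S, Finite (X.residueField x.1 →ₐ[k] k') := fun x => by
    haveI := finite_points f k'
    haveI : Finite (Σ x : X, (X.residueField x →ₐ[k] k')) := Finite.of_equiv _ eqv
    exact Finite.of_injective (β := Σ x : X, (X.residueField x →ₐ[k] k'))
      (fun φ : X.residueField x.1 →ₐ[k] k' => Sigma.mk x.1 φ) fun a b h => eq_of_heq (Sigma.mk.inj h).2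
  unfold SgaExt.pointCount
  rw [Nat.card_congr eqv, ← Nat.card_congr (Equiv.sigmaSubtypeEquivOfSubset
    (fun x : X => (X.residueField x →ₐ[k] k')) (fun x => x ∈ S) fun x φ => hmem x ⟨φ⟩), Nat.card_sigma]
  rw [Finset.sum_congr rfl fun (x : S) _ => FiniteField.natCard_algHom_of_finrank_dvd
    (Nat.mem_divisors.mp ((hS x.1).mp x.2)).1, Finset.univ_eq_attach,
    Finset.sum_attach S (fun x => Module.finrank k (X.residueField x)),
    ← Finset.sum_fiberwise_of_maps_to (t := (Module.finrank k k').divisors)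
      (g := fun x => Module.finrank k (X.residueField x)) (fun x hx => (hS x).mp hx)]
  unfold Zeta.nPts
  refine Finset.sum_congr rfl fun e he => ?_
  rw [Finset.sum_congr rfl fun x hx => (Finset.mem_filter.mp hx).2, Finset.sum_const, smul_eq_mul,
    mul_comm, degCount_eq f e (Nat.pos_of_mem_divisors he).ne', ← Set.ncard_coe_finset]
  congr 2
  ext x
  simp only [Finset.coe_filter, Set.mem_ofPred_eq, residueDegree_eq_finrank f halg]
  exact ⟨And.right, fun h => ⟨(hS x).mpr (h ▸ he), h⟩⟩

end Groth.Agent.H27Zeta
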