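import Groth.Agent.H27Zeta.ZetaBasics
import Mathlib

/-!
# Zeta functions of the affine line and of base changes
-/

set_option autoImplicit false
set_option linter.style.haveILetI false
universe u

noncomputable section

open CategoryTheory AlgebraicGeometry PowerSeries Limits

namespace Groth.Agent.H27Zeta

theorem exists_extension (k : Type u) [Field k] [Finite k] (m : ℕ) (hm : m ≠ 0) :
    ∃ (k' : Type u) (_ : Field k') (_ : Algebra k k'), Finite k' ∧ Module.finrank k k' = m := by
  obtain ⟨p, hp⟩ := CharP.exists k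
  haveI : Fact p.Prime := ⟨CharP.char_is_prime k p⟩
  haveI : NeZero m := ⟨hm⟩
  exact ⟨ULift.{u} (FiniteField.Extension k p m), inferInstance, inferInstance, inferInstance,
    (ULift.algEquiv (R := k) (A := FiniteField.Extension k p m)).toLinearEquiv.finrank_eq.trans
      (FiniteField.finrank_extension k p m)⟩

variable {k : Type u} [Field k] [Finite k] {X : Scheme.{u}}

omit [Finite k] in
theorem pointCount_affineSpace (n : Type u) [Finite n] (f : X ⟶ Spec (CommRingCat.of k))
    (k' : Type u) [Field k'] [Algebra k k'] [Finite k'] :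
    SgaExt.pointCount ((𝔸(n; X) ↘ X) ≫ f) k' = Nat.card k' ^ Nat.card n * SgaExt.pointCount f k' := by
  let T := Spec (CommRingCat.of k')
  let a : T ⟶ Spec (CommRingCat.of k) := Spec.map (CommRingCat.ofHom (algebraMap k k'))
  let eΓ : (n → Γ(T, ⊤)) ≃ (n → k') :=
    Equiv.piCongrRight fun _ => (Scheme.ΓSpecIso (CommRingCat.of k')).commRingCatIsoToRingEquiv.toEquiv
  let e : {g : T ⟶ 𝔸(n; X) // g ≫ (𝔸(n; X) ↘ X) ≫ f = a} ≃
      {h : T ⟶ X // h ≫ f = a} × (n → Γ(T, ⊤)) :=
    { toFun := fun g => (⟨g.1 ≫ (𝔸(n; X) ↘ X), by rw [Category.assoc]; exact g.2⟩,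
        fun i => g.1.appTop (AffineSpace.coord X i))
      invFun := fun p => ⟨AffineSpace.homOfVector p.1.1 p.2, by
        rw [AffineSpace.homOfVector_over_assoc]; exact p.1.2⟩
      left_inv := fun g => Subtype.ext (AffineSpace.hom_ext (by simp) fun i => by
        rw [AffineSpace.homOfVector_appTop_coord])
      right_inv := fun p => Prod.ext (Subtype.ext (by simp))
        (funext fun i => by simp [AffineSpace.homOfVector_appTop_coord]) }
  unfold SgaExt.pointCount
  rw [Nat.card_congr e, Nat.card_prod, Nat.card_congr eΓ, Nat.card_fun, mul_comm]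

theorem zetaFun_affineLine (f : X ⟶ Spec (CommRingCat.of k)) [LocallyOfFiniteType f] [QuasiCompact f] :
    Zeta.zetaFun ((𝔸(PUnit.{u + 1}; X) ↘ X) ≫ f) =
      PowerSeries.rescale (Nat.card k : ℚ) (Zeta.zetaFun f) := by
  have hL : Zeta.logZeta ((𝔸(PUnit.{u + 1}; X) ↘ X) ≫ f) =
      PowerSeries.rescale (Nat.card k : ℚ) (Zeta.logZeta f) := by
    ext m
    rw [coeff_rescale, Zeta.logZeta, Zeta.logZeta, coeff_mk, coeff_mk]
    rcases Nat.eq_zero_or_pos m with rfl | hm
    · simp
    obtain ⟨k', _, _, _, hk'⟩ := exists_extension k m hm.ne'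
    haveI : Module.Finite k k' := Module.Finite.of_finite
    have h := pointCount_affineSpace PUnit.{u + 1} f k'
    rw [pointCount_eq_nPts, pointCount_eq_nPts, hk'] at h
    rw [h, Nat.card_unique (α := PUnit.{u + 1}), pow_one, Module.natCard_eq_pow_finrank (K := k), hk']
    push_cast
    ring
  rw [Zeta.zetaFun, Zeta.zetaFun, hL, rescale_eq_subst, rescale_eq_subst,
    subst_comp_subst_apply (HasSubst.of_constantCoeff_zero' (constantCoeff_logZeta f))
      (HasSubst.smul_X' _)]

omit [Finite k] in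
theorem pointCount_baseChange (f : X ⟶ Spec (CommRingCat.of k)) (k' k'' : Type u) [Field k'] [Field k'']
    [Algebra k k'] [Algebra k' k''] [Algebra k k''] [IsScalarTower k k' k''] :
    SgaExt.pointCount (pullback.snd f (Spec.map (CommRingCat.ofHom (algebraMap k k')))) k'' =
      SgaExt.pointCount f k'' := by
  let s := Spec.map (CommRingCat.ofHom (algebraMap k k'))
  let t := Spec.map (CommRingCat.ofHom (algebraMap k' k''))
  have hts : t ≫ s = Spec.map (CommRingCat.ofHom (algebraMap k k'')) := by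
    rw [← Spec.map_comp, ← CommRingCat.ofHom_comp, ← IsScalarTower.algebraMap_eq]
  refine Nat.card_congr
    { toFun := fun g => ⟨g.1 ≫ pullback.fst f s, by
        rw [Category.assoc, pullback.condition, ← Category.assoc, g.2, hts]⟩
      invFun := fun h => ⟨pullback.lift h.1 t (h.2.trans hts.symm), pullback.lift_snd _ _ _⟩
      left_inv := fun g => Subtype.ext (pullback.hom_ext (pullback.lift_fst _ _ _)
        ((pullback.lift_snd _ _ _).trans g.2.symm))
      right_inv := fun h => Subtype.ext (pullback.lift_fst _ _ _) }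

theorem nPts_baseChange (f : X ⟶ Spec (CommRingCat.of k)) [LocallyOfFiniteType f] [QuasiCompact f]
    (k' : Type u) [Field k'] [Algebra k k'] [Finite k'] (j : ℕ) (hj : j ≠ 0) :
    Zeta.nPts (pullback.snd f (Spec.map (CommRingCat.ofHom (algebraMap k k')))) j =
      Zeta.nPts f (Module.finrank k k' * j) := by
  obtain ⟨k'', _, _, _, hk''⟩ := exists_extension k' j hj
  letI : Algebra k k'' := ((algebraMap k' k'').comp (algebraMap k k')).toAlgebra
  haveI : IsScalarTower k k' k'' := IsScalarTower.of_algebraMap_eq fun _ => rfl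
  rw [← hk'', ← pointCount_eq_nPts _ k'', pointCount_baseChange, pointCount_eq_nPts,
    Module.finrank_mul_finrank]

theorem sum_pow_mul_primitive {ξ : ℂ} {r : ℕ} (hξ : IsPrimitiveRoot ξ r) (m : ℕ) :
    ∑ i ∈ Finset.range r, (ξ ^ i) ^ m = if r ∣ m then (r : ℂ) else 0 := by
  have h : ∀ i, (ξ ^ i) ^ m = (ξ ^ m) ^ i := fun i => by rw [← pow_mul, ← pow_mul, mul_comm]
  simp only [h]
  split_ifs with hm
  · simp [(hξ.pow_eq_one_iff_dvd m).mpr hm]
  · have h1 : ξ ^ m ≠ 1 := fun h' => hm ((hξ.pow_eq_one_iff_dvd m).mp h')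
    rw [geom_sum_eq h1, ← pow_mul, mul_comm, pow_mul, hξ.pow_eq_one, one_pow, sub_self, zero_div]

theorem zetaFun_baseChange (f : X ⟶ Spec (CommRingCat.of k)) [LocallyOfFiniteType f] [QuasiCompact f]
    (k' : Type u) [Field k'] [Algebra k k'] [Finite k'] (ξ : ℂ)
    (hξ : IsPrimitiveRoot ξ (Module.finrank k k')) :
    PowerSeries.subst ((PowerSeries.X : PowerSeries ℂ) ^ Module.finrank k k')
        (PowerSeries.map (algebraMap ℚ ℂ) (Zeta.zetaFun
          (pullback.snd f (Spec.map (CommRingCat.ofHom (algebraMap k k')))))) =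
      ∏ i ∈ Finset.range (Module.finrank k k'),
        PowerSeries.rescale (ξ ^ i) (PowerSeries.map (algebraMap ℚ ℂ) (Zeta.zetaFun f)) := by
  haveI : Module.Finite k k' := Module.Finite.of_finite
  obtain ⟨r, hr⟩ : ∃ r, Module.finrank k k' = r := ⟨_, rfl⟩
  have hr0 : r ≠ 0 := hr ▸ Module.finrank_pos.ne'
  rw [hr] at hξ ⊢
  have hmap : ∀ L : PowerSeries ℚ, constantCoeff L = 0 →
      PowerSeries.map (algebraMap ℚ ℂ) ((PowerSeries.exp ℚ).subst L) =
        (PowerSeries.exp ℂ).subst (PowerSeries.map (algebraMap ℚ ℂ) L) := fun L hL => by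
    rw [← map_exp (algebraMap ℚ ℂ)]
    exact PowerSeries.map_subst (HasSubst.of_constantCoeff_zero' hL) _
  have hc : ∀ {Y : Scheme.{u}} {k₀ : Type u} [Field k₀] (g : Y ⟶ Spec (CommRingCat.of k₀)),
      constantCoeff (PowerSeries.map (algebraMap ℚ ℂ) (Zeta.logZeta g)) = 0 := fun g => by
    rw [← coeff_zero_eq_constantCoeff_apply, coeff_map, coeff_zero_eq_constantCoeff_apply, constantCoeff_logZeta,
      map_zero]
  simp only [Zeta.zetaFun, hmap _ (constantCoeff_logZeta _)]
  rw [subst_comp_subst_apply (HasSubst.of_constantCoeff_zero' (hc _)) (HasSubst.X_pow hr0)]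
  have hrs : ∀ i, PowerSeries.rescale (ξ ^ i)
      ((PowerSeries.exp ℂ).subst (PowerSeries.map (algebraMap ℚ ℂ) (Zeta.logZeta f))) =
      (PowerSeries.exp ℂ).subst
        (PowerSeries.rescale (ξ ^ i) (PowerSeries.map (algebraMap ℚ ℂ) (Zeta.logZeta f))) := fun i => by
    rw [rescale_eq_subst, rescale_eq_subst,
      subst_comp_subst_apply (HasSubst.of_constantCoeff_zero' (hc _)) (HasSubst.smul_X' _)]
  simp only [hrs]
  rw [← H27Weil.exp_subst_sum]
  swap
  · intro i _
    rw [← coeff_zero_eq_constantCoeff_apply, coeff_rescale, coeff_zero_eq_constantCoeff_apply, hc, mul_zero]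
  congr 1
  ext m
  rw [coeff_subst_X_pow hr0, map_sum]
  simp only [coeff_rescale, coeff_map, Algebra.algebraMap_self, RingHom.id_apply]
  rw [← Finset.sum_mul, sum_pow_mul_primitive hξ]
  split_ifs with hd
  · obtain ⟨j, rfl⟩ := hd
    rw [Nat.mul_div_cancel_left _ (Nat.pos_of_ne_zero hr0), Zeta.logZeta, Zeta.logZeta, coeff_mk, coeff_mk]
    rcases Nat.eq_zero_or_pos j with rfl | hj
    · simp
    rw [nPts_baseChange f k' j hj.ne', hr]
    have : (r : ℂ) ≠ 0 := Nat.cast_ne_zero.mpr hr0
    simp only [map_div₀, map_natCast, map_mul, Nat.cast_mul]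
    field_simp
  · rw [zero_mul]

end Groth.Agent.H27Zeta
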