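import Groth.Agent.H11Proj.ProjSpace
import Groth.Agent.H27Weil.Geometry
import Groth.Agent.H27Zeta.AffineLine
import Mathlib

/-!
# Points of projective space over a finite field
-/

set_option autoImplicit false
set_option linter.style.haveILetI false
universe u

noncomputable section

open CategoryTheory AlgebraicGeometry MvPolynomial CohB1 Groth.Agent.H11Proj.ProjSpace

namespace Groth.Agent.H27Zeta

section

variable {n : ℕ} {k : Type u} [Field k] {k' : Type u} [Field k'] [Algebra k k']

theorem chartInv_chartMap (i : Fin (n + 1)) (p : MvPolynomial {j : Fin (n + 1) // j ≠ i} k) :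
    chartInv n k i (chartMap n k i p) = p := by
  suffices h : (chartInv n k i).comp (chartMap n k i) = RingHom.id _ from RingHom.congr_fun h p
  refine MvPolynomial.ringHom_ext (fun r => ?_) (fun j => ?_)
  · have h1 := RingHom.congr_fun (chartInv_awayProjHom n k i) (C r)
    rw [← chartMap_comp_dehom] at h1
    simpa [dehom] using h1
  · have h1 := RingHom.congr_fun (chartInv_awayProjHom n k i) (X j.1)
    rw [← chartMap_comp_dehom] at h1
    simpa [dehom, j.2] using h1

/-- The homogeneous coordinates of a point in the `i`-th chart. -/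
def coord (i : Fin (n + 1)) (v : {j : Fin (n + 1) // j ≠ i} → k') (j : Fin (n + 1)) : k' :=
  if h : j = i then 1 else v ⟨j, h⟩

/-- The inclusion of the `i`-th chart. -/
def chartι (i : Fin (n + 1)) :
    Spec (CommRingCat.of (HomogeneousLocalization.Away (polyGrading n k) (X i))) ⟶ ProjSpace n k :=
  Proj.awayι (polyGrading n k) (X i) (X_mem n k i) one_pos

instance isOpenImmersion_chartι (i : Fin (n + 1)) : IsOpenImmersion (chartι (k := k) i) :=
  inferInstanceAs (IsOpenImmersion (Proj.awayι (polyGrading n k) (X i) (X_mem n k i) one_pos))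

theorem chartι_toSpec (i : Fin (n + 1)) :
    chartι (k := k) i ≫ ProjSpace.toSpec n k = Spec.map (CommRingCat.ofHom ((chartMap n k i).comp C)) :=
  awayι_toSpec n k i

/-- The point of the `i`-th chart with given coordinates. -/
def chartPoint (i : Fin (n + 1)) (v : {j : Fin (n + 1) // j ≠ i} → k') :
    Spec (CommRingCat.of k') ⟶ ProjSpace n k :=
  Spec.map (CommRingCat.ofHom ((MvPolynomial.eval₂Hom (algebraMap k k') v).comp (chartInv n k i))) ≫
    chartι i

theorem chartPoint_over (i : Fin (n + 1)) (v : {j : Fin (n + 1) // j ≠ i} → k') :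
    chartPoint (k := k) i v ≫ ProjSpace.toSpec n k = Spec.map (CommRingCat.ofHom (algebraMap k k')) := by
  rw [chartPoint, Category.assoc, chartι_toSpec, ← Spec.map_comp, ← CommRingCat.ofHom_comp]
  congr 2
  exact RingHom.ext fun c => by simp [chartInv_chartMap]

theorem chartPoint_mem_iff (i j : Fin (n + 1)) (v : {j : Fin (n + 1) // j ≠ i} → k')
    (z : ↥(Spec (CommRingCat.of k'))) :
    chartPoint (k := k) i v z ∈ Proj.basicOpen (polyGrading n k) (X j) ↔ coord i v j ≠ 0 := by
  let ψ := (MvPolynomial.eval₂Hom (algebraMap k k') v).comp (chartInv n k i)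
  obtain ⟨P, hP⟩ : ∃ P : PrimeSpectrum (HomogeneousLocalization.Away (polyGrading n k) (X i)), P = PrimeSpectrum.comap ψ z :=
    ⟨_, rfl⟩
  have h1 : chartPoint (k := k) i v z ∈ Proj.basicOpen (polyGrading n k) (X j) ↔
      P ∈ PrimeSpectrum.basicOpen (HomogeneousLocalization.Away.isLocalizationElem (X_mem n k i) (X_mem n k j)) := by
    rw [← Proj.awayι_preimage_basicOpen (polyGrading n k) (X_mem n k i) one_pos (X_mem n k j) one_pos, hP]
    rfl
  have hbot : z.asIdeal = ⊥ := (Ideal.eq_bot_or_top z.asIdeal).resolve_right z.isPrime.ne_top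
  rw [h1, hP, PrimeSpectrum.mem_basicOpen]
  show ¬ (ψ (HomogeneousLocalization.Away.isLocalizationElem (X_mem n k i) (X_mem n k j)) ∈ z.asIdeal) ↔ _
  rw [hbot, Ideal.mem_bot]
  have h2 : ψ (HomogeneousLocalization.Away.isLocalizationElem (X_mem n k i) (X_mem n k j)) = coord i v j := by
    show MvPolynomial.eval₂Hom (algebraMap k k') v (chartInv n k i _) = _
    rw [chartInv_mk, pow_one]
    by_cases h : j = i <;> simp [dehom, coord, h]
  rw [h2]

theorem exists_chartPoint (i : Fin (n + 1)) (g : Spec (CommRingCat.of k') ⟶ ProjSpace n k)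
    (hg : g ≫ ProjSpace.toSpec n k = Spec.map (CommRingCat.ofHom (algebraMap k k')))
    (z : ↥(Spec (CommRingCat.of k'))) (hi : g z ∈ Proj.basicOpen (polyGrading n k) (X i)) :
    ∃ v, g = chartPoint i v := by
  let j := chartι (k := k) i
  have hr : Set.range g ⊆ Set.range j := by
    rintro _ ⟨y, rfl⟩
    rw [Subsingleton.elim y z]
    exact (Proj.opensRange_awayι (polyGrading n k) (X i) (X_mem n k i) one_pos).ge hi
  let θ := Spec.preimage (IsOpenImmersion.lift j g hr)
  have hθ : Spec.map θ ≫ j = g := by rw [Spec.map_preimage, IsOpenImmersion.lift_fac]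
  let v : {j : Fin (n + 1) // j ≠ i} → k' := fun l => θ.hom (chartMap n k i (X l))
  have hC : θ.hom.comp ((chartMap n k i).comp C) = algebraMap k k' := by
    have h := hg
    rw [← hθ, Category.assoc, chartι_toSpec, ← Spec.map_comp] at h
    exact congrArg CommRingCat.Hom.hom (Spec.map_injective h)
  have heq : θ.hom.comp (chartMap n k i) = MvPolynomial.eval₂Hom (algebraMap k k') v :=
    MvPolynomial.ringHom_ext (fun c => by rw [MvPolynomial.eval₂Hom_C]; exact RingHom.congr_fun hC c)
      (fun l => by rw [MvPolynomial.eval₂Hom_X']; rfl)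
  refine ⟨v, ?_⟩
  rw [chartPoint, ← hθ]
  refine congrArg (fun t => Spec.map t ≫ j) (CommRingCat.hom_ext (RingHom.ext fun a => ?_))
  obtain ⟨p, rfl⟩ := (chartMap_bijective n k i).2 a
  show (θ.hom.comp (chartMap n k i)) p = MvPolynomial.eval₂Hom (algebraMap k k') v (chartInv n k i (chartMap n k i p))
  rw [chartInv_chartMap, heq]

theorem chartPoint_injective (i : Fin (n + 1)) :
    Function.Injective (chartPoint (k := k) (k' := k') i) := by
  intro v w h
  rw [chartPoint, chartPoint, cancel_mono] at h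
  funext l
  have h2 := RingHom.congr_fun (congrArg CommRingCat.Hom.hom (Spec.map_injective h)) (chartMap n k i (X l))
  simpa [chartInv_chartMap] using h2

/-- Extension by zero of the coordinates after the `i`-th one. -/
def extZero (i : Fin (n + 1)) (w : {j : Fin (n + 1) // i < j} → k') : {j : Fin (n + 1) // j ≠ i} → k' :=
  fun j => if h : i < j.1 then w ⟨j.1, h⟩ else 0

theorem pointCount_projSpace :
    SgaExt.pointCount (ProjSpace.toSpec n k) k' = Nat.card (Σ i : Fin (n + 1), {j : Fin (n + 1) // i < j} → k') := by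
  let pt : ↥(Spec (CommRingCat.of k')) := IsLocalRing.closedPoint k'
  let e : (Σ i : Fin (n + 1), {j : Fin (n + 1) // i < j} → k') →
      {g : Spec (CommRingCat.of k') ⟶ ProjSpace n k //
        g ≫ ProjSpace.toSpec n k = Spec.map (CommRingCat.ofHom (algebraMap k k'))} :=
    fun p => ⟨chartPoint p.1 (extZero p.1 p.2), chartPoint_over _ _⟩
  have hbefore : ∀ (i : Fin (n + 1)) (w : {j : Fin (n + 1) // i < j} → k') (j : Fin (n + 1)), j < i →
      coord i (extZero i w) j = 0 := fun i w j hj => by
    simp [coord, extZero, hj.ne, hj.not_gt]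
  have hat : ∀ (i : Fin (n + 1)) (w : {j : Fin (n + 1) // i < j} → k'), coord i (extZero i w) i ≠ 0 :=
    fun i w => by simp [coord]
  unfold SgaExt.pointCount
  refine (Nat.card_eq_of_bijective e ⟨?_, ?_⟩).symm
  · rintro ⟨i, w⟩ ⟨i', w'⟩ h
    have h' : chartPoint (k := k) i (extZero i w) = chartPoint i' (extZero i' w') := congrArg Subtype.val h
    have hle : i' ≤ i := by
      by_contra hlt
      exact (chartPoint_mem_iff i' i (extZero i' w') pt).mp
        (h' ▸ (chartPoint_mem_iff i i (extZero i w) pt).mpr (hat i w)) (hbefore _ _ _ (not_le.mp hlt))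
    have hge : i ≤ i' := by
      by_contra hlt
      exact (chartPoint_mem_iff i i' (extZero i w) pt).mp
        (h'.symm ▸ (chartPoint_mem_iff i' i' (extZero i' w') pt).mpr (hat i' w')) (hbefore _ _ _ (not_le.mp hlt))
    obtain rfl := le_antisymm hge hle
    congr 1
    funext l
    have := congrFun (chartPoint_injective i h') ⟨l.1, l.2.ne'⟩
    simpa [extZero, l.2] using this
  · rintro ⟨g, hg⟩
    classical
    have hne : (Finset.univ.filter fun i => g pt ∈ Proj.basicOpen (polyGrading n k) (X i)).Nonempty := by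
      obtain ⟨i, hi⟩ := TopologicalSpace.Opens.mem_iSup.mp ((iSup_basicOpen n k).ge (Set.mem_univ (g pt)))
      exact ⟨i, Finset.mem_filter.mpr ⟨Finset.mem_univ _, hi⟩⟩
    obtain ⟨i, hi, hmin⟩ : ∃ i, g pt ∈ Proj.basicOpen (polyGrading n k) (X i) ∧
        ∀ j, g pt ∈ Proj.basicOpen (polyGrading n k) (X j) → i ≤ j :=
      ⟨_, (Finset.mem_filter.mp (Finset.min'_mem _ hne)).2, fun j hj =>
        Finset.min'_le _ j (Finset.mem_filter.mpr ⟨Finset.mem_univ _, hj⟩)⟩
    obtain ⟨v, rfl⟩ := exists_chartPoint i g hg pt hi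
    have hz : ∀ j : {j : Fin (n + 1) // j ≠ i}, j.1 < i → v j = 0 := fun j hj => by
      by_contra hvj
      refine absurd (hmin j.1 ((chartPoint_mem_iff i j.1 v pt).mpr ?_)) (not_le.mpr hj)
      simpa [coord, j.2] using hvj
    refine ⟨⟨i, fun l => v ⟨l.1, l.2.ne'⟩⟩, Subtype.ext (congrArg (chartPoint i) (funext fun j => ?_))⟩
    unfold extZero
    split_ifs with h
    · rfl
    · exact (hz j (lt_of_le_of_ne (not_lt.mp h) j.2)).symm

end

theorem zetaFun_projSpace (k : Type u) [Field k] [Finite k] (n : ℕ) :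
    Zeta.zetaFun (ProjSpace.toSpec n k) *
        ∏ i ∈ Finset.range (n + 1), (1 - PowerSeries.C ((Nat.card k : ℚ) ^ i) * PowerSeries.X) = 1 := by
  have hn : ∀ m, m ≠ 0 → (Zeta.nPts (ProjSpace.toSpec n k) m : ℚ) =
      ∑ i ∈ Finset.range (n + 1), ((Nat.card k : ℚ) ^ i) ^ m := by
    intro m hm
    obtain ⟨k₁, _, _, _, hk₁⟩ := exists_extension k m hm
    haveI : Module.Finite k k₁ := Module.Finite.of_finite
    classical
    cases nonempty_fintype k₁
    have hc : Nat.card k₁ = Nat.card k ^ m := by rw [Module.natCard_eq_pow_finrank (K := k), hk₁]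
    rw [← hk₁, ← pointCount_eq_nPts _ k₁, pointCount_projSpace, Nat.card_sigma,
      ← Finset.sum_range_reflect (fun i => ((Nat.card k : ℚ) ^ i) ^ (Module.finrank k k₁)) (n + 1),
      ← Fin.sum_univ_eq_sum_range (fun j => ((Nat.card k : ℚ) ^ (n + 1 - 1 - j)) ^ (Module.finrank k k₁)),
      Nat.cast_sum]
    refine Finset.sum_congr rfl fun i _ => ?_
    have hcard : Nat.card {j : Fin (n + 1) // i < j} = n + 1 - 1 - (i : ℕ) := by
      rw [Nat.card_eq_fintype_card, Fintype.card_subtype,
        show (Finset.univ.filter fun j => i < j) = Finset.Ioi i by ext; simp, Fin.card_Ioi]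
    rw [Nat.card_fun, hcard, hc, hk₁]
    push_cast
    rw [← pow_mul, ← pow_mul, mul_comm]
  have h := expQ_sum_logFac (Finset.range (n + 1)) (fun i => (Nat.card k : ℚ) ^ i) (fun _ => 1) (fun _ => 1)
    fun _ _ => one_ne_zero
  simp only [pow_one, one_smul] at h
  rw [← h, Zeta.zetaFun, ← expQ_add (constantCoeff_logZeta _) (by
    rw [map_sum]; exact Finset.sum_eq_zero fun i _ => constantCoeff_logFac _ _)]
  have h0 : Zeta.logZeta (ProjSpace.toSpec n k) + ∑ i ∈ Finset.range (n + 1), logFac ((Nat.card k : ℚ) ^ i) 1 = 0 := by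
    ext m
    rw [map_add, map_sum, Zeta.logZeta, PowerSeries.coeff_mk]
    simp only [logFac, PowerSeries.coeff_mk, one_dvd, if_true, Nat.cast_one, one_mul, Nat.div_one, map_zero]
    rcases Nat.eq_zero_or_pos m with rfl | hm
    · simp
    rw [hn m hm.ne', Finset.sum_div, ← Finset.sum_add_distrib]
    exact Finset.sum_eq_zero fun i _ => by ring
  rw [h0]
  simpa using expQ_sum_logFac (∅ : Finset ℕ) (fun _ => 1) (fun _ => 1) (fun _ => 1) (by simp)

end Groth.Agent.H27Zeta
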