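import Mathlib

/-! Formal exp/log, derivative of a determinant, rationality criterion. -/

open Finset PowerSeries

noncomputable section

namespace Groth.Agent.H27Zeta

section ExpLog

variable {A : Type*} [CommRing A]

lemma mk_neg_one_mul : (PowerSeries.mk fun n => (-1 : A) ^ n) * (1 + X) = 1 := by
  ext n
  rw [mul_add, mul_one, map_add]
  cases n <;> simp [pow_succ]

variable [Algebra ℚ A] [IsAddTorsionFree A]

theorem log_subst_exp : (PowerSeries.log A).subst (PowerSeries.exp A - 1) = X := by
  set e := PowerSeries.exp A - 1
  have he : HasSubst e := HasSubst.exp_sub_one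
  refine derivative.ext ?_ ?_
  · rw [derivative_subst he, derivative_X, deriv_log, map_sub, Derivation.map_one_eq_zero, sub_zero,
      derivative_exp]
    have h := congrArg (substAlgHom (R := A) he) (mk_neg_one_mul (A := A))
    rw [map_mul, map_add, map_one, substAlgHom_X he, coe_substAlgHom] at h
    rw [show (PowerSeries.mk fun n => algebraMap ℚ A ((-1 : ℚ) ^ n)) =
      PowerSeries.mk fun n => (-1 : A) ^ n by ext n; simp]
    rwa [show (1 : PowerSeries A) + e = PowerSeries.exp A by simp [e]] at h
  · rw [constantCoeff_X]
    exact constantCoeff_subst_eq_zero (show PowerSeries.constantCoeff (PowerSeries.exp A - 1) = 0 by simp) _ constantCoeff_log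

/-- A series g with g(0) = 1 and g' = g L' is exp(L). -/
theorem eq_exp_subst {g L : PowerSeries A} (hL : constantCoeff L = 0) (hg : constantCoeff g = 1)
    (hd : derivative A g = g * derivative A L) : g = (PowerSeries.exp A).subst L := by
  have hs : HasSubst L := HasSubst.of_constantCoeff_zero' hL
  have hns : HasSubst (-L) := HasSubst.of_constantCoeff_zero' (by simp [hL])
  set E := (PowerSeries.exp A).subst L
  set E' := (PowerSeries.exp A).subst (-L)
  have hE : derivative A E = E * derivative A L := by
    rw [derivative_subst hs, derivative_exp]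
  have hE' : derivative A E' = -(E' * derivative A L) := by
    rw [derivative_subst hns, derivative_exp, map_neg]; ring
  have hc : ∀ M : PowerSeries A, constantCoeff M = 0 →
      constantCoeff ((PowerSeries.exp A).subst M) = 1 := by
    intro M hM
    have hMs : HasSubst M := HasSubst.of_constantCoeff_zero' hM
    rw [← coeff_zero_eq_constantCoeff_apply, coeff_subst' hMs,
      finsum_eq_single _ 0 fun d hd => by simp [hM, zero_pow hd]]
    simp
  have h1 : g * E' = 1 := derivative.ext
    (by rw [Derivation.leibniz, hd, hE', Derivation.map_one_eq_zero]; simp only [smul_eq_mul]; ring)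
    (by simp [hg, hc _ (show constantCoeff (-L) = 0 by simp [hL]), E'])
  have h2 : E * E' = 1 := derivative.ext
    (by rw [Derivation.leibniz, hE, hE', Derivation.map_one_eq_zero]; simp only [smul_eq_mul]; ring)
    (by simp [hc _ hL, hc _ (show constantCoeff (-L) = 0 by simp [hL]), E, E'])
  calc g = g * (E * E') := by rw [h2, mul_one]
    _ = E * (g * E') := by ring
    _ = E := by rw [h1, mul_one]

theorem exp_subst_log : (PowerSeries.exp A).subst (PowerSeries.log A) = 1 + X := by
  refine (eq_exp_subst constantCoeff_log (by simp) ?_).symm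
  rw [deriv_log, map_add, Derivation.map_one_eq_zero, derivative_X, zero_add,
    show (PowerSeries.mk fun n => algebraMap ℚ A ((-1 : ℚ) ^ n)) =
      PowerSeries.mk fun n => (-1 : A) ^ n by ext n; simp, mul_comm, mk_neg_one_mul]

end ExpLog

section Det

variable {R S : Type*} [CommRing R] [CommRing S] [Algebra R S] {n : Type*} [Fintype n]
  [DecidableEq n]

/-- Jacobi's formula. -/
theorem derivation_det (D : Derivation R S S) (A : Matrix n n S) :
    D A.det = Matrix.trace (A.adjugate * A.map D) := by
  have hprod : ∀ (s : Finset n) (f : n → S),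
      D (∏ i ∈ s, f i) = ∑ j ∈ s, (∏ i ∈ s.erase j, f i) * D (f j) := by
    intro s f
    induction s using Finset.induction with
    | empty => simp
    | insert a s ha ih =>
      rw [prod_insert ha, Derivation.leibniz, ih, sum_insert ha, erase_insert ha,
        smul_eq_mul, smul_eq_mul, mul_sum, add_comm]
      congr 1
      refine sum_congr rfl fun j hj => ?_
      rw [erase_insert_of_ne (fun h : a = j => ha (h ▸ hj)),
        prod_insert (fun h => ha (mem_of_mem_erase h)), mul_assoc]
  have hcol : ∀ j, (A.adjugate * A.map D) j j = (A.updateCol j fun i => D (A i j)).det := by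
    intro j
    rw [← Matrix.cramer_apply, Matrix.cramer_eq_adjugate_mulVec]
    rfl
  simp only [Matrix.trace, Matrix.diag, hcol]
  rw [Matrix.det_apply', map_sum]
  simp only [Matrix.det_apply']
  rw [sum_comm]
  refine sum_congr rfl fun σ _ => ?_
  rw [Derivation.leibniz, Derivation.map_intCast, smul_zero, add_zero, smul_eq_mul, hprod, mul_sum]
  refine sum_congr rfl fun j _ => ?_
  rw [← mul_prod_erase univ _ (mem_univ j), Matrix.updateCol_self, mul_comm (D _)]
  congr 2
  refine prod_congr rfl fun i hi => ?_
  rw [Matrix.updateCol_ne (ne_of_mem_erase hi)]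

theorem charpolyRev_eq_exp {K : Type*} [Field K] [CharZero K] (M : Matrix n n K) :
    ((M.charpolyRev : Polynomial K) : PowerSeries K) =
      PowerSeries.subst (PowerSeries.mk fun m : ℕ => -(Matrix.trace (M ^ m)) / (m : K))
        (PowerSeries.exp K) := by
  set L : PowerSeries K := PowerSeries.mk fun m : ℕ => -(Matrix.trace (M ^ m)) / (m : K)
  set A : Matrix n n (PowerSeries K) := 1 - (X : PowerSeries K) • M.map C with hA
  have hdet : ((M.charpolyRev : Polynomial K) : PowerSeries K) = A.det := by
    rw [Matrix.charpolyRev, ← Polynomial.coeToPowerSeries.ringHom_apply, RingHom.map_det]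
    congr 1
    refine Matrix.ext fun i j => ?_
    simp only [hA, RingHom.mapMatrix_apply, Matrix.map_apply, Matrix.sub_apply, Matrix.smul_apply,
      smul_eq_mul, map_sub, map_mul, Polynomial.coeToPowerSeries.ringHom_apply, Polynomial.coe_X,
      Polynomial.coe_C, Matrix.one_apply]
    split_ifs <;> simp [Polynomial.coe_sub]
  rw [hdet]
  set G : Matrix n n (PowerSeries K) :=
    Matrix.of fun i j => PowerSeries.mk fun k => (M ^ k) i j with hG
  have hAG : A * G = 1 := by
    refine Matrix.ext fun i j => ?_
    rw [hA, sub_mul, one_mul, Matrix.sub_apply, Matrix.mul_apply]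
    simp only [Matrix.smul_apply, Matrix.map_apply, smul_eq_mul, hG, Matrix.of_apply]
    ext k
    rw [map_sub, map_sum, coeff_mk]
    cases k with
    | zero =>
      simp only [coeff_zero_eq_constantCoeff, map_mul, constantCoeff_X, zero_mul, sum_const_zero,
        sub_zero, pow_zero]
      by_cases h : i = j <;> simp [h, Matrix.one_apply]
    | succ k =>
      simp only [mul_assoc, coeff_succ_X_mul, coeff_C_mul, coeff_mk]
      rw [pow_succ', Matrix.mul_apply, sub_self]
      by_cases h : i = j <;> simp [h, Matrix.one_apply]
  have hadj : A.adjugate = A.det • G := by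
    calc A.adjugate = A.adjugate * (A * G) := by rw [hAG, mul_one]
      _ = A.det • G := by rw [← mul_assoc, Matrix.adjugate_mul, smul_mul_assoc, one_mul]
  refine eq_exp_subst (by simp [L]) ?_ ?_
  · rw [← hdet, Polynomial.constantCoeff_coe, Polynomial.coeff_zero_eq_eval_zero,
      Matrix.eval_charpolyRev]
  · rw [derivation_det, hadj, smul_mul_assoc, Matrix.trace_smul, smul_eq_mul]
    congr 1
    have hDA : ∀ i j, derivative K (A i j) = -C (M i j) := by
      intro i j
      simp only [hA, Matrix.sub_apply, Matrix.smul_apply, Matrix.map_apply, smul_eq_mul, map_sub,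
        Derivation.leibniz, derivative_X, derivative_C]
      by_cases h : i = j <;> simp [h, Matrix.one_apply, smul_eq_mul]
    ext k
    rw [coeff_derivative, coeff_mk, Matrix.trace, map_sum]
    simp only [Matrix.diag, Matrix.mul_apply, map_sum, Matrix.map_apply, hDA, hG, Matrix.of_apply,
      mul_neg, map_neg, coeff_mul_C, coeff_mk]
    rw [Nat.cast_succ, div_mul_cancel₀ _ (Nat.cast_add_one_ne_zero k), Matrix.trace]
    simp only [Matrix.diag, pow_succ, Matrix.mul_apply, sum_neg_distrib]

end Det

section Rational

variable {L : Type*} [Field L]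

/-- Windows of length N+1 of the coefficient sequence from M on. -/
def windows (f : PowerSeries L) (M N : ℕ) : Set (Fin (N + 1) → L) :=
  {v | ∃ i : ℕ, M ≤ i ∧ v = fun j : Fin (N + 1) => PowerSeries.coeff (i + (j : ℕ)) f}

theorem rational_iff (f : PowerSeries L) :
    (∃ P Q : Polynomial L, Q ≠ 0 ∧ f * (Q : PowerSeries L) = (P : PowerSeries L)) ↔
      ∃ M N : ℕ, Submodule.span L (windows f M N) ≠ ⊤ := by
  constructor
  · rintro ⟨P, Q, hQ, hPQ⟩
    refine ⟨P.natDegree + 1, Q.natDegree, fun htop => hQ ?_⟩
    let φ : (Fin (Q.natDegree + 1) → L) →ₗ[L] L :=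
      ∑ j : Fin (Q.natDegree + 1), Q.coeff (Q.natDegree - j) • LinearMap.proj j
    have hφ : φ = 0 := by
      refine LinearMap.ext_on htop ?_
      rintro v ⟨i, hi, rfl⟩
      have h := congrArg (PowerSeries.coeff (i + Q.natDegree)) hPQ
      rw [coeff_mul, Polynomial.coeff_coe, Polynomial.coeff_eq_zero_of_natDegree_lt (p := P)
        (by omega)] at h
      simp only [φ, LinearMap.sum_apply, LinearMap.smul_apply, LinearMap.proj_apply,
        LinearMap.zero_apply, smul_eq_mul]
      rw [Finset.Nat.sum_antidiagonal_eq_sum_range_succ_mk] at h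
      simp only [Polynomial.coeff_coe] at h
      rw [Fin.sum_univ_eq_sum_range
        (fun j => Q.coeff (Q.natDegree - j) * PowerSeries.coeff (i + j) f) (Q.natDegree + 1)]
      refine Eq.trans ?_ h
      conv_rhs => rw [show (i + Q.natDegree).succ = i + (Q.natDegree + 1) by omega, sum_range_add]
      rw [sum_eq_zero (s := range i) fun x hx => ?_, zero_add]
      · refine sum_congr rfl fun j hj => ?_
        rw [mem_range] at hj
        rw [show i + Q.natDegree - (i + j) = Q.natDegree - j by omega, mul_comm]
      · rw [mem_range] at hx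
        rw [Polynomial.coeff_eq_zero_of_natDegree_lt (by omega), mul_zero]
    have hlead : φ (Pi.single 0 1) = Q.leadingCoeff := by
      simp only [φ, LinearMap.sum_apply, LinearMap.smul_apply, LinearMap.proj_apply, smul_eq_mul]
      rw [Finset.sum_eq_single 0 (fun b _ hb => by rw [Pi.single_eq_of_ne hb, mul_zero]) (by simp), Pi.single_eq_same, mul_one, Fin.val_zero, Nat.sub_zero, Polynomial.coeff_natDegree]
    rw [hφ, LinearMap.zero_apply] at hlead
    exact Polynomial.leadingCoeff_eq_zero.1 hlead.symm
  · rintro ⟨M, N, h⟩
    obtain ⟨φ, hφ, hker⟩ :=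
      Submodule.exists_le_ker_of_lt_top _ (lt_top_iff_ne_top.2 h)
    set c : ℕ → L := fun j => if hj : j < N + 1 then φ (Pi.single ⟨j, hj⟩ 1) else 0 with hc
    set Q : Polynomial L := ∑ j ∈ range (N + 1), Polynomial.C (c j) * Polynomial.X ^ (N - j) with hQ
    have hQc : ∀ j ≤ N, Q.coeff (N - j) = c j := by
      intro j hj
      rw [hQ, Polynomial.finsetSum_coeff, sum_eq_single j]
      · simp
      · intro b hb hbj
        rw [mem_range] at hb
        rw [Polynomial.coeff_C_mul_X_pow, if_neg (by omega)]
      · intro hh
        exact absurd (mem_range.2 (by omega)) hh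
    have hexp : ∀ v, φ v = ∑ j : Fin (N + 1), v j * c j := by
      intro v
      conv_lhs => rw [← Finset.univ_sum_single v]
      rw [map_sum]
      refine sum_congr rfl fun j _ => ?_
      rw [show Pi.single j (v j) = v j • (Pi.single j (1 : L) : Fin (N + 1) → L) by
        rw [← Pi.single_smul', smul_eq_mul, mul_one], map_smul, smul_eq_mul]
      simp [hc, Nat.le_of_lt_succ j.isLt]
    refine ⟨PowerSeries.trunc (M + N) (f * (Q : PowerSeries L)), Q, fun h0 => hφ ?_, ?_⟩
    · refine LinearMap.ext fun v => ?_
      rw [hexp, LinearMap.zero_apply]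
      refine sum_eq_zero fun j _ => ?_
      rw [← hQc j (by omega), h0, Polynomial.coeff_zero, mul_zero]
    · ext m
      rw [Polynomial.coeff_coe, PowerSeries.coeff_trunc]
      split_ifs with hm
      · rfl
      have h0 : φ (fun j : Fin (N + 1) => PowerSeries.coeff (m - N + (j : ℕ)) f) = 0 :=
        hker (Submodule.subset_span ⟨m - N, by omega, rfl⟩)
      rw [hexp, Fin.sum_univ_eq_sum_range (fun j => PowerSeries.coeff (m - N + j) f * c j) (N + 1)]
        at h0
      rw [coeff_mul, Finset.Nat.sum_antidiagonal_eq_sum_range_succ_mk, ← h0]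
      simp only [Polynomial.coeff_coe]
      rw [show m.succ = (m - N) + (N + 1) by omega, sum_range_add, sum_eq_zero fun x hx => ?_,
        zero_add]
      · refine sum_congr rfl fun j hj => ?_
        rw [mem_range] at hj
        rw [show m - (m - N + j) = N - j by omega, hQc j (by omega)]
      · rw [mem_range] at hx
        rw [Polynomial.coeff_eq_zero_of_natDegree_lt, mul_zero]
        refine lt_of_le_of_lt (Polynomial.natDegree_sum_le_of_forall_le (n := N) _ _ fun j _ => ?_) ?_
        · exact le_trans (Polynomial.natDegree_C_mul_X_pow_le _ _) (Nat.sub_le _ _)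
        · omega

end Rational

end Groth.Agent.H27Zeta
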