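import Groth.Agent.H27Zeta.LogFactors
import Groth.Agent.H27Zeta.PointCount
import Groth.Prelude.Def_W4c1zetahwZeta
import Mathlib

/-!
# Euler product, additivity and polynomial count for zeta functions
-/

set_option autoImplicit false
set_option linter.style.haveILetI false
universe u

noncomputable section

open CategoryTheory AlgebraicGeometry PowerSeries

namespace Groth.Agent.H27Zeta

variable {k : Type u} [Field k] {X : Scheme.{u}}

theorem constantCoeff_logZeta (f : X ⟶ Spec (CommRingCat.of k)) :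
    constantCoeff (Zeta.logZeta f) = 0 := by
  rw [← coeff_zero_eq_constantCoeff_apply, Zeta.logZeta, coeff_mk]
  simp

theorem expQ_add {a b : PowerSeries ℚ} (ha : constantCoeff a = 0) (hb : constantCoeff b = 0) :
    (PowerSeries.exp ℚ).subst (a + b) = (PowerSeries.exp ℚ).subst a * (PowerSeries.exp ℚ).subst b :=
  H27Weil.exp_subst_add ha hb

theorem expQ_sum_logFac {ι : Type*} (s : Finset ι) (a : ι → ℚ) (r c : ι → ℕ) (hr : ∀ i ∈ s, r i ≠ 0) :
    (PowerSeries.exp ℚ).subst (∑ i ∈ s, c i • logFac (a i) (r i)) =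
      ∏ i ∈ s, (1 - C (a i) * PowerSeries.X ^ r i) ^ c i := by
  convert! exp_subst_sum_logFac s a r c hr using 3

theorem trunc_zetaFun_mul_prod (f : X ⟶ Spec (CommRingCat.of k)) (n : ℕ) :
    PowerSeries.trunc (n + 1)
        (Zeta.zetaFun f * ∏ r ∈ Finset.Icc 1 n, (1 - PowerSeries.X ^ r) ^ Zeta.degCount f r) = 1 := by
  have hpos : ∀ r ∈ Finset.Icc 1 n, r ≠ 0 := fun r hr => by rw [Finset.mem_Icc] at hr; omega
  have h := expQ_sum_logFac (Finset.Icc 1 n) (fun _ => 1) id (Zeta.degCount f) hpos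
  simp only [map_one, one_mul, id_eq] at h
  rw [← h, Zeta.zetaFun, ← expQ_add (constantCoeff_logZeta f) (by
    rw [map_sum]; exact Finset.sum_eq_zero fun i _ => by rw [map_nsmul, constantCoeff_logFac, nsmul_zero])]
  refine trunc_exp_subst n fun m hm => ?_
  rw [map_add, map_sum, Zeta.logZeta, coeff_mk]
  simp only [map_nsmul, logFac, coeff_mk, one_pow, mul_one]
  rcases Nat.eq_zero_or_pos m with rfl | hm0
  · simp
  have hdiv : m.divisors = (Finset.Icc 1 n).filter (· ∣ m) := by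
    ext d
    simp only [Nat.mem_divisors, Finset.mem_filter, Finset.mem_Icc]
    exact ⟨fun h => ⟨⟨Nat.pos_of_dvd_of_pos h.1 hm0, (Nat.le_of_dvd hm0 h.1).trans hm⟩, h.1⟩,
      fun h => ⟨h.2, hm0.ne'⟩⟩
  rw [Zeta.nPts, hdiv, Finset.sum_filter, Nat.cast_sum, Finset.sum_div, ← Finset.sum_add_distrib]
  refine Finset.sum_eq_zero fun r _ => ?_
  split_ifs <;> simp [nsmul_eq_mul]; ring

theorem exists_int_coeff (f : X ⟶ Spec (CommRingCat.of k)) (n : ℕ) :
    ∃ z : ℤ, coeff n (Zeta.zetaFun f) = (z : ℚ) := by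
  set P : PowerSeries ℤ := ∏ r ∈ Finset.Icc 1 n, (1 - PowerSeries.X ^ r) ^ Zeta.degCount f r with hP
  have hc : constantCoeff P = 1 := by
    rw [hP, map_prod]
    exact Finset.prod_eq_one fun r hr => by
      rw [Finset.mem_Icc] at hr
      simp [show r ≠ 0 by omega]
  obtain ⟨Q, hQ⟩ := isUnit_iff_exists_inv.mp (PowerSeries.isUnit_iff_constantCoeff.mpr (hc ▸ isUnit_one))
  have hPQ : PowerSeries.map (Int.castRingHom ℚ) P * PowerSeries.map (Int.castRingHom ℚ) Q = 1 := by
    rw [← map_mul, hQ, map_one]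
  have hPmap : PowerSeries.map (Int.castRingHom ℚ) P =
      ∏ r ∈ Finset.Icc 1 n, (1 - PowerSeries.X ^ r) ^ Zeta.degCount f r := by
    simp [hP, map_prod]
  refine ⟨coeff n Q, ?_⟩
  have h := trunc_zetaFun_mul_prod f n
  rw [← hPmap] at h
  calc coeff n (Zeta.zetaFun f)
      = coeff n ((Zeta.zetaFun f * PowerSeries.map (Int.castRingHom ℚ) P) *
          PowerSeries.map (Int.castRingHom ℚ) Q) := by rw [mul_assoc, hPQ, mul_one]
    _ = coeff n (((trunc (n + 1) (Zeta.zetaFun f * PowerSeries.map (Int.castRingHom ℚ) P) :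
          Polynomial ℚ) : PowerSeries ℚ) *
          ((trunc (n + 1) (PowerSeries.map (Int.castRingHom ℚ) Q) : Polynomial ℚ) : PowerSeries ℚ)) := by
        exact coeff_mul_eq_coeff_trunc_mul_trunc _ _ n.lt_succ_self
    _ = _ := by rw [h, Polynomial.coe_one, one_mul, Polynomial.coeff_coe, coeff_trunc, if_pos n.lt_succ_self,
                  coeff_map]; rfl

theorem zetaFun_polynomial_count (f : X ⟶ Spec (CommRingCat.of k)) (q : ℚ) (P : Polynomial ℤ)
    (hP : ∀ m : ℕ, 1 ≤ m → (Zeta.nPts f m : ℚ) = ∑ i ∈ Finset.range (P.natDegree + 1), (P.coeff i : ℚ) * (q ^ i) ^ m) :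
    Zeta.zetaFun f * ∏ i ∈ Finset.range (P.natDegree + 1), (1 - PowerSeries.C (q ^ i) * PowerSeries.X) ^ (P.coeff i).toNat =
      ∏ i ∈ Finset.range (P.natDegree + 1), (1 - PowerSeries.C (q ^ i) * PowerSeries.X) ^ (-P.coeff i).toNat := by
  have h : ∀ c : ℕ → ℕ, ∏ i ∈ Finset.range (P.natDegree + 1), (1 - PowerSeries.C (q ^ i) * PowerSeries.X) ^ c i =
      (PowerSeries.exp ℚ).subst (∑ i ∈ Finset.range (P.natDegree + 1), c i • logFac (q ^ i) 1) := fun c => by
    rw [expQ_sum_logFac _ (fun i => q ^ i) (fun _ => 1) c fun _ _ => one_ne_zero]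
    simp only [pow_one]
  rw [h, h, Zeta.zetaFun, ← expQ_add (constantCoeff_logZeta f) (by
    rw [map_sum]; exact Finset.sum_eq_zero fun i _ => by rw [map_nsmul, constantCoeff_logFac, nsmul_zero])]
  congr 1
  ext m
  rw [map_add, map_sum, map_sum, Zeta.logZeta, coeff_mk]
  simp only [map_nsmul]
  simp only [logFac, coeff_mk, one_dvd, if_true, Nat.cast_one, one_mul, Nat.div_one, nsmul_eq_mul]
  rcases Nat.eq_zero_or_pos m with rfl | hm
  · simp
  rw [hP m hm, Finset.sum_div, ← Finset.sum_add_distrib]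
  refine Finset.sum_congr rfl fun i _ => ?_
  have : (P.coeff i : ℚ) = ((P.coeff i).toNat : ℚ) - ((-P.coeff i).toNat : ℚ) := by
    exact_mod_cast (Int.toNat_sub_toNat_neg (P.coeff i)).symm
  rw [this]; ring

theorem residueDegree_comp_immersion [Finite k] {Y : Scheme.{u}} (f : X ⟶ Spec (CommRingCat.of k)) (i : Y ⟶ X)
    [IsPreimmersion i] (y : Y) :
    EGA4loc.residueDegree (i ≫ f) y = EGA4loc.residueDegree f (i y) := by
  let ψ : CommRingCat.of k ⟶ X.residueField (i y) := Spec.preimage (X.fromSpecResidueField (i y) ≫ f)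
  have hψ : Spec.map ψ = X.fromSpecResidueField (i y) ≫ f := Spec.map_preimage _
  have hsurj : Function.Surjective (i.residueFieldMap y).hom := by
    intro a
    obtain ⟨b, rfl⟩ := IsLocalRing.residue_surjective a
    obtain ⟨c, rfl⟩ := i.stalkMap_surjective y b
    exact ⟨IsLocalRing.residue _ c, rfl⟩
  rw [H27Weil.residueDegree_base_eq f (i y) ψ hψ,
    H27Weil.residueDegree_base_eq (i ≫ f) y (ψ ≫ i.residueFieldMap y) (by
      rw [Spec.map_comp, hψ, Scheme.Hom.SpecMap_residueFieldMap_fromSpecResidueField_assoc])]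
  letI : Algebra k (X.residueField (i y)) := ψ.hom.toAlgebra
  letI : Algebra k (Y.residueField y) := (ψ ≫ i.residueFieldMap y).hom.toAlgebra
  let e : X.residueField (i y) →ₐ[k] Y.residueField y :=
    { (i.residueFieldMap y).hom with commutes' := fun _ => rfl }
  exact (LinearEquiv.finrank_eq
    (AlgEquiv.ofBijective e ⟨e.toRingHom.injective, hsurj⟩).toLinearEquiv).symm

theorem nPts_eq_add [Finite k] {Y : Scheme.{u}} (f : X ⟶ Spec (CommRingCat.of k)) [LocallyOfFiniteType f]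
    [QuasiCompact f] (U : X.Opens) (i : Y ⟶ X) [IsClosedImmersion i] (hY : Set.range i.base = (U : Set X)ᶜ)
    (m : ℕ) : Zeta.nPts f m = Zeta.nPts (i ≫ f) m + Zeta.nPts (U.ι ≫ f) m := by
  unfold Zeta.nPts
  rw [← Finset.sum_add_distrib]
  refine Finset.sum_congr rfl fun e he => ?_
  rw [← mul_add]
  congr 1
  have he0 := (Nat.pos_of_mem_divisors he).ne'
  rw [degCount_eq f e he0, degCount_eq (i ≫ f) e he0, degCount_eq (U.ι ≫ f) e he0]
  have hset : {x : X | EGA4loc.residueDegree f x = e} =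
      i '' {y | EGA4loc.residueDegree (i ≫ f) y = e} ∪
        U.ι '' {y | EGA4loc.residueDegree (U.ι ≫ f) y = e} := by
    ext x
    simp only [Set.mem_union, Set.mem_image, Set.mem_ofPred_eq, residueDegree_comp_immersion]
    refine ⟨fun h => ?_, ?_⟩
    · by_cases hx : x ∈ U
      · exact Or.inr ⟨⟨x, hx⟩, h, rfl⟩
      · obtain ⟨y, hy⟩ := hY.symm ▸ (show x ∈ (U : Set X)ᶜ from hx)
        exact Or.inl ⟨y, by rw [show i y = x from hy]; exact h, hy⟩
    · rintro (⟨y, h, rfl⟩ | ⟨y, h, rfl⟩) <;> exact h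
  have hfin := finite_degCount f e he0
  rw [hset, Set.finite_union] at hfin
  rw [hset, Set.ncard_union_eq ?_ hfin.1 hfin.2,
    Set.ncard_image_of_injective _ i.isClosedEmbedding.injective,
    Set.ncard_image_of_injective _ U.ι.isOpenEmbedding.injective]
  refine Set.disjoint_left.mpr ?_
  rintro _ ⟨y, -, rfl⟩ ⟨z, -, hz⟩
  exact (hY.le ⟨y, rfl⟩) (hz ▸ z.2)

theorem zetaFun_eq_mul [Finite k] {Y : Scheme.{u}} (f : X ⟶ Spec (CommRingCat.of k)) [LocallyOfFiniteType f]
    [QuasiCompact f] (U : X.Opens) (i : Y ⟶ X) [IsClosedImmersion i] (hY : Set.range i.base = (U : Set X)ᶜ) :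
    Zeta.zetaFun f = Zeta.zetaFun (i ≫ f) * Zeta.zetaFun (U.ι ≫ f) := by
  rw [Zeta.zetaFun, Zeta.zetaFun, Zeta.zetaFun,
    ← expQ_add (constantCoeff_logZeta _) (constantCoeff_logZeta _)]
  congr 1
  ext m
  simp only [Zeta.logZeta, map_add, coeff_mk, nPts_eq_add f U i hY m, Nat.cast_add, add_div]

end Groth.Agent.H27Zeta
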