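import Mathlib

/-! Bounded power sums. -/

open Finset Filter Topology

namespace Groth.Agent.H27Zeta

/-- Simultaneous return times of finitely many points of the circle. -/
lemma exists_return {n : ℕ} (u : Fin n → ℂ) (hu : ∀ i, ‖u i‖ = 1) (R : ℕ) :
    ∃ m : ℕ, R ≤ m ∧ ∀ i, ‖u i ^ m - 1‖ < 1 / 2 := by
  have hmem : ∀ k : ℕ, (fun i => u i ^ k) ∈ Metric.closedBall (0 : Fin n → ℂ) 1 := by
    intro k
    rw [mem_closedBall_zero_iff, pi_norm_le_iff_of_nonneg zero_le_one]
    intro i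
    simp [hu i]
  obtain ⟨a, -, φ, hφ, hlim⟩ :=
    (isCompact_closedBall (0 : Fin n → ℂ) 1).tendsto_subseq hmem
  rw [Metric.tendsto_atTop] at hlim
  obtain ⟨N, hN⟩ := hlim (1 / 4) (by norm_num)
  have hl : φ N + R ≤ φ (φ N + R + N) := le_trans (Nat.le_add_right _ N) (hφ.id_le _)
  refine ⟨φ (φ N + R + N) - φ N, by omega, fun i => ?_⟩
  have hd : dist (fun i => u i ^ φ (φ N + R + N)) (fun i => u i ^ φ N) < 1 / 2 := by
    have h1 := hN (φ N + R + N) (by omega)
    have h2 := hN N le_rfl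
    simp only [Function.comp_apply] at h1 h2
    have := dist_triangle_right (fun i => u i ^ φ (φ N + R + N)) (fun i => u i ^ φ N) a
    linarith
  have he : u i ^ φ (φ N + R + N) - u i ^ φ N =
      u i ^ φ N * (u i ^ (φ (φ N + R + N) - φ N) - 1) := by
    rw [mul_sub, mul_one, ← pow_add, Nat.add_sub_cancel' (by omega)]
  have h3 := lt_of_le_of_lt (dist_le_pi_dist (fun i => u i ^ φ (φ N + R + N))
    (fun i => u i ^ φ N) i) hd
  rw [dist_eq_norm, he, norm_mul, norm_pow, hu i, one_pow, one_mul] at h3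
  exact h3

theorem norm_le_one_of_powerSum_bounded {n : ℕ} (β : Fin n → ℂ) (C : ℝ)
    (hC : ∀ r : ℕ, 1 ≤ r → ‖∑ i, β i ^ r‖ ≤ C) (i : Fin n) : ‖β i‖ ≤ 1 := by
  classical
  by_contra hi
  push Not at hi
  obtain ⟨R, hR⟩ := pow_unbounded_of_one_lt (2 * C) hi
  set u : Fin n → ℂ := fun j => if β j = 0 then 1 else β j / ((‖β j‖ : ℝ) : ℂ) with hu
  have hu1 : ∀ j, ‖u j‖ = 1 := fun j => by
    by_cases h : β j = 0
    · simp [hu, h]
    · simp [hu, h]
  obtain ⟨m, hm, hclose⟩ := exists_return u hu1 (R + 1)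
  have hpos : ∀ j, ‖β j‖ ^ m / 2 ≤ (β j ^ m).re := fun j => by
    by_cases h : β j = 0
    · simp [h, zero_pow (show m ≠ 0 by omega)]
    · have hb : β j = ((‖β j‖ : ℝ) : ℂ) * u j := by
        simp only [hu, if_neg h]
        have : ((‖β j‖ : ℝ) : ℂ) ≠ 0 := by exact_mod_cast norm_ne_zero_iff.2 h
        rw [← mul_div_assoc, mul_div_cancel_left₀ _ this]
      conv_rhs => rw [hb, mul_pow, ← Complex.ofReal_pow, Complex.re_ofReal_mul]
      have h1 : 1 / 2 ≤ (u j ^ m).re := by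
        have h2 := le_trans (Complex.abs_re_le_norm (u j ^ m - 1)) (hclose j).le
        rw [Complex.sub_re, Complex.one_re, abs_le] at h2
        linarith
      have := mul_le_mul_of_nonneg_left h1 (pow_nonneg (norm_nonneg (β j)) m)
      linarith
  have h1 : ‖β i‖ ^ m / 2 ≤ ∑ j, (β j ^ m).re := le_trans (hpos i)
    (Finset.single_le_sum (f := fun j => (β j ^ m).re)
      (fun j _ => le_trans (by positivity) (hpos j)) (mem_univ i))
  have h2 : ∑ j, (β j ^ m).re ≤ C := by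
    rw [← Complex.re_sum]
    exact le_trans (Complex.re_le_norm _) (hC m (by omega))
  have h3 : ‖β i‖ ^ R ≤ ‖β i‖ ^ m := pow_le_pow_right₀ hi.le (by omega)
  linarith

end Groth.Agent.H27Zeta
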