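import Groth.Agent.H27Zeta.HomBound
import Mathlib

/-!
# Bounds for the number of points over finite fields of arithmetic schemes
-/

set_option autoImplicit false
universe u v

noncomputable section

open CategoryTheory AlgebraicGeometry TopologicalSpace

namespace Groth.Agent.H27Zeta

theorem exists_bound_field {k : Type v} [Field k] (A : Type u) [CommRing A] [Algebra k A]
    [Algebra.FiniteType k A] (n : ℕ) (hn : ringKrullDim A ≤ (n : WithBot ℕ∞)) :
    ∃ c : ℕ, ∀ (F : Type u) [Field F] [Finite F] [Algebra k F],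
      Finite (A →ₐ[k] F) ∧ Nat.card (A →ₐ[k] F) ≤ c * Nat.card F ^ n := by
  let inc : A →ₐ[k] TensorProduct k (FractionRing k) A := Algebra.TensorProduct.includeRight
  haveI : IsLocalizedModule (nonZeroDivisors k) inc.toLinearMap :=
    (isLocalizedModule_iff_isBaseChange (nonZeroDivisors k) (FractionRing k) _).mpr
      (TensorProduct.isBaseChange k A (FractionRing k))
  have hsurj : Function.Surjective inc.toRingHom := by
    intro z
    obtain ⟨⟨x, c⟩, hc⟩ := IsLocalizedModule.surj (nonZeroDivisors k) inc.toLinearMap z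
    refine ⟨(c : k)⁻¹ • x, ?_⟩
    show inc ((c : k)⁻¹ • x) = z
    rw [map_smul, show inc x = (c : k) • z from hc.symm, inv_smul_smul₀ (nonZeroDivisors.ne_zero c.2)]
  obtain ⟨N, c, hN, h⟩ := exists_bound.{u, u, v} (R := k) A n
    ((ringKrullDim_le_of_surjective _ hsurj).trans hn)
  exact ⟨c, fun F _ _ _ => h F ((map_ne_zero _).mpr hN)⟩

/-- Bound for homomorphisms of a finitely generated ring into finite fields. -/
theorem exists_bound_int (A : Type u) [CommRing A] [Algebra.FiniteType ℤ A] (r : ℕ)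
    (hr : ringKrullDim A ≤ (r : WithBot ℕ∞)) :
    ∃ (c p₀ : ℕ), ∀ (p m : ℕ), p.Prime → ∀ (F : Type u) [Field F], Nat.card F = p ^ m → 1 ≤ m →
      Finite (A →+* F) ∧
        (p₀ ≤ p → Nat.card (A →+* F) ≤ c * (p ^ m) ^ (r - 1) ∧ (r = 0 → Nat.card (A →+* F) = 0)) ∧
        Nat.card (A →+* F) ≤ c * (p ^ m) ^ r := by
  classical
  obtain ⟨N, c₀, hN, hc0, hbig⟩ := exists_bound_vertical.{u, u, 0} (R := ℤ) A (comap_maximal_int A) r hr
  have hsmall : ∀ p : ℕ, ∃ c : ℕ, p.Prime → ∀ (F : Type u) [Field F] [CharP F p] [Finite F],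
      Finite (A →+* F) ∧ Nat.card (A →+* F) ≤ c * Nat.card F ^ r := by
    intro p
    by_cases hp : p.Prime
    swap
    · exact ⟨0, fun h => absurd h hp⟩
    haveI := Fact.mk hp
    let I : Ideal A := Ideal.span {(p : A)}
    let φ : ZMod p →+* A ⧸ I :=
      (Ideal.Quotient.lift (Ideal.span {(p : ℤ)}) (Int.castRingHom (A ⧸ I)) (fun z hz => by
        obtain ⟨w, rfl⟩ := Ideal.mem_span_singleton.mp hz
        rw [map_mul, map_natCast]
        have : ((p : ℕ) : A ⧸ I) = 0 := by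
          rw [← map_natCast (Ideal.Quotient.mk I), Ideal.Quotient.eq_zero_iff_mem]
          exact Ideal.mem_span_singleton_self _
        rw [this, zero_mul])).comp (Int.quotientSpanNatEquivZMod p).symm.toRingHom
    letI : Algebra (ZMod p) (A ⧸ I) := φ.toAlgebra
    haveI : Algebra.FiniteType (ZMod p) (A ⧸ I) := by
      have h1 : (Int.castRingHom (A ⧸ I)).FiniteType := by
        have h : (Ideal.Quotient.mk I).comp (algebraMap ℤ A) = Int.castRingHom (A ⧸ I) := RingHom.ext_int _ _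
        rw [← h]
        exact (RingHom.FiniteType.of_surjective _ Ideal.Quotient.mk_surjective).comp
          (RingHom.finiteType_algebraMap.mpr inferInstance)
      rw [← RingHom.finiteType_algebraMap]
      exact RingHom.FiniteType.of_comp_finiteType (f := Int.castRingHom (ZMod p)) (by
        rwa [show (algebraMap (ZMod p) (A ⧸ I)).comp (Int.castRingHom (ZMod p)) = Int.castRingHom (A ⧸ I) from
          RingHom.ext_int _ _])
    obtain ⟨c, hc⟩ := exists_bound_field (k := ZMod p) (A ⧸ I) r ((ringKrullDim_quotient_le I).trans hr)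
    refine ⟨c, fun _ F _ _ _ => ?_⟩
    letI := ZMod.algebra F p
    obtain ⟨hfin, hle⟩ := hc F
    have hker : ∀ (θ : A →+* F), ∀ a ∈ I, θ a = 0 := fun θ a ha => by
      obtain ⟨b, rfl⟩ := Ideal.mem_span_singleton.mp ha
      rw [map_mul, map_natCast, CharP.cast_eq_zero, zero_mul]
    let Ψ : (A →+* F) → (A ⧸ I →ₐ[ZMod p] F) := fun θ =>
      { Ideal.Quotient.lift I θ (hker θ) with
        commutes' := fun z => RingHom.congr_fun
          (Subsingleton.elim ((Ideal.Quotient.lift I θ (hker θ)).comp (algebraMap (ZMod p) (A ⧸ I)))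
            (algebraMap (ZMod p) F)) z }
    have hΨ : Function.Injective Ψ := fun θ θ' h => RingHom.ext fun a =>
      AlgHom.congr_fun h (Ideal.Quotient.mk I a)
    exact ⟨Finite.of_injective Ψ hΨ, (Nat.card_le_card_of_injective Ψ hΨ).trans hle⟩
  choose c₁ hc₁ using hsmall
  refine ⟨c₀ + ∑ p ∈ Finset.range (N.natAbs + 1), c₁ p, N.natAbs + 1, fun p m hp F _ hF hm => ?_⟩
  haveI : Finite F := Nat.finite_of_card_ne_zero (by rw [hF]; exact (pow_pos hp.pos m).ne')
  haveI := Fact.mk hp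
  haveI : CharP F p := by
    letI := Fintype.ofFinite F
    exact charP_of_card_eq_prime_pow (f := m) (by rw [← Nat.card_eq_fintype_card, hF])
  have hbig' : ¬ (p : ℤ) ∣ N → Finite (A →+* F) ∧ Nat.card (A →+* F) ≤ c₀ * (p ^ m) ^ (r - 1) := by
    intro hdvd
    obtain ⟨h1, h2⟩ := hbig F (fun h => hdvd ((CharP.intCast_eq_zero_iff F p N).mp (by simpa using h)))
    let e : (A →+* F) → (A →ₐ[ℤ] F) := fun θ => θ.toIntAlgHom
    have he : Function.Injective e := fun θ θ' h => RingHom.ext fun a => AlgHom.congr_fun h a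
    exact ⟨Finite.of_injective e he, ((Nat.card_le_card_of_injective e he).trans h2).trans_eq (by rw [hF])⟩
  have hge : N.natAbs + 1 ≤ p → ¬ (p : ℤ) ∣ N := by
    intro hle hd
    have := Nat.le_of_dvd (Int.natAbs_pos.mpr hN) (Int.natCast_dvd.mp hd)
    omega
  have hfull : Finite (A →+* F) ∧ Nat.card (A →+* F) ≤ (c₀ + ∑ p ∈ Finset.range (N.natAbs + 1), c₁ p) * (p ^ m) ^ r := by
    by_cases hd : (p : ℤ) ∣ N
    · have hle : p ∈ Finset.range (N.natAbs + 1) :=
        Finset.mem_range.mpr (Nat.lt_succ_of_le (Nat.le_of_dvd (Int.natAbs_pos.mpr hN) (Int.natCast_dvd.mp hd)))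
      obtain ⟨h1, h2⟩ := hc₁ p hp F
      rw [hF] at h2
      exact ⟨h1, h2.trans (Nat.mul_le_mul_right _ ((Finset.single_le_sum (fun _ _ => Nat.zero_le _) hle).trans
        (Nat.le_add_left _ _)))⟩
    · obtain ⟨h1, h2⟩ := hbig' hd
      exact ⟨h1, h2.trans (Nat.mul_le_mul (Nat.le_add_right _ _)
        (Nat.pow_le_pow_right (pow_pos hp.pos m) (Nat.sub_le r 1)))⟩
  refine ⟨hfull.1, fun hle => ?_, hfull.2⟩
  obtain ⟨-, h2⟩ := hbig' (hge hle)
  refine ⟨h2.trans (Nat.mul_le_mul_right _ (Nat.le_add_right _ _)), fun h0 => ?_⟩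
  rw [hc0 h0, zero_mul] at h2
  exact Nat.le_zero.mp h2

theorem exists_point_bound {X : Scheme.{u}} (f : X ⟶ Spec (CommRingCat.of (ULift.{u} ℤ)))
    [LocallyOfFiniteType f] [QuasiCompact f] (r : ℕ) (hr : topologicalKrullDim X ≤ r) :
    ∃ (c p₀ : ℕ), ∀ (p m : ℕ), p.Prime → 1 ≤ m → ∀ (F : Type u) [Field F], Nat.card F = p ^ m →
      Finite (Spec (CommRingCat.of F) ⟶ X) ∧
        (p₀ ≤ p → Nat.card (Spec (CommRingCat.of F) ⟶ X) ≤ c * (p ^ m) ^ (r - 1) ∧
          (r = 0 → Nat.card (Spec (CommRingCat.of F) ⟶ X) = 0)) ∧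
        Nat.card (Spec (CommRingCat.of F) ⟶ X) ≤ c * (p ^ m) ^ r := by
  classical
  haveI : CompactSpace ↥X := (quasiCompact_iff_compactSpace f).mp inferInstance
  let 𝒰 := X.affineCover.finiteSubcover
  haveI : Finite 𝒰.I₀ := inferInstance
  cases nonempty_fintype 𝒰.I₀
  have key : ∀ i : 𝒰.I₀, ∃ (R : CommRingCat.{u}) (j : Spec R ⟶ X), IsOpenImmersion j ∧
      Set.range j = Set.range (𝒰.f i) ∧ Algebra.FiniteType ℤ R ∧ ringKrullDim R ≤ (r : WithBot ℕ∞) := by
    intro i
    haveI : IsAffine (𝒰.X i) := by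
      show IsAffine (X.affineCover.X _)
      infer_instance
    let R := Γ(𝒰.X i, ⊤)
    let j : Spec R ⟶ X := (𝒰.X i).isoSpec.inv ≫ 𝒰.f i
    refine ⟨R, j, inferInstance, ?_, ?_, ?_⟩
    · rw [Scheme.Hom.comp_base, TopCat.coe_comp, Set.range_comp,
        show Set.range (𝒰.X i).isoSpec.inv = Set.univ from Set.range_eq_univ.mpr (𝒰.X i).isoSpec.inv.homeomorph.surjective, Set.image_univ]
    · have h1 : (Spec.preimage (j ≫ f)).hom.FiniteType := by
        have h : LocallyOfFiniteType (Spec.map (Spec.preimage (j ≫ f))) := by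
          rw [Spec.map_preimage]; infer_instance
        exact (HasRingHomProperty.Spec_iff (P := @LocallyOfFiniteType)).mp h
      have h2 : (Int.castRingHom R).FiniteType := by
        have h3 : ((Spec.preimage (j ≫ f)).hom.comp (ULift.ringEquiv.symm.toRingHom : ℤ →+* ULift.{u} ℤ)) =
            Int.castRingHom R := RingHom.ext_int _ _
        rw [← h3]
        exact h1.comp (RingHom.FiniteType.of_surjective _ (ULift.ringEquiv (R := ℤ)).symm.surjective)
      rw [← RingHom.finiteType_algebraMap]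
      convert h2
      exact RingHom.ext_int _ _
    · refine le_trans ?_ hr
      rw [← PrimeSpectrum.topologicalKrullDim_eq_ringKrullDim]
      exact j.isOpenEmbedding.isInducing.topologicalKrullDim_le
  choose R j hj hrange hft hdim using key
  have hb := fun i => @exists_bound_int (R i) _ (hft i) r (hdim i)
  choose c p₀ hcp using hb
  refine ⟨∑ i, c i, Finset.univ.sup p₀, fun p m hp hm F _ hF => ?_⟩
  have hlift : ∀ h : Spec (CommRingCat.of F) ⟶ X, ∃ (i : 𝒰.I₀) (θ : R i →+* F),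
      Spec.map (CommRingCat.ofHom θ) ≫ j i = h := by
    intro h
    let pt : ↥(Spec (CommRingCat.of F)) := IsLocalRing.closedPoint F
    obtain ⟨i, y, hy⟩ := 𝒰.exists_eq (h pt)
    haveI := hj i
    have hsub : Set.range h ⊆ Set.range (j i) := by
      rintro _ ⟨z, rfl⟩
      rw [hrange i, Subsingleton.elim (α := PrimeSpectrum F) z pt]
      exact ⟨y, hy⟩
    refine ⟨i, (Spec.preimage (IsOpenImmersion.lift (j i) h hsub)).hom, ?_⟩
    rw [CommRingCat.ofHom_hom, Spec.map_preimage, IsOpenImmersion.lift_fac]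
  choose ix θ hθ using hlift
  let Φ : (Spec (CommRingCat.of F) ⟶ X) → Σ i, (R i →+* F) := fun h => ⟨ix h, θ h⟩
  have hΦ : Function.Injective Φ := fun h h' e => by
    rw [← hθ h, ← hθ h']
    exact congrArg (fun s : Σ i, (R i →+* F) => Spec.map (CommRingCat.ofHom s.2) ≫ j s.1) e
  haveI : ∀ i, Finite (R i →+* F) := fun i => (hcp i p m hp F hF hm).1
  haveI : Finite (Spec (CommRingCat.of F) ⟶ X) := Finite.of_injective Φ hΦ
  have hle := (Nat.card_le_card_of_injective Φ hΦ).trans_eq Nat.card_sigma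
  refine ⟨inferInstance, fun hp0 => ⟨?_, fun h0 => ?_⟩, ?_⟩
  · rw [Finset.sum_mul]
    exact hle.trans (Finset.sum_le_sum fun i _ =>
      ((hcp i p m hp F hF hm).2.1 ((Finset.le_sup (Finset.mem_univ i)).trans hp0)).1)
  · refine Nat.le_zero.mp (hle.trans (le_of_eq (Finset.sum_eq_zero fun i _ => ?_)))
    exact ((hcp i p m hp F hF hm).2.1 ((Finset.le_sup (Finset.mem_univ i)).trans hp0)).2 h0
  · rw [Finset.sum_mul]
    exact hle.trans (Finset.sum_le_sum fun i _ => (hcp i p m hp F hF hm).2.2)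

theorem exists_point_bound_real {X : Scheme.{u}} (f : X ⟶ Spec (CommRingCat.of (ULift.{u} ℤ)))
    [LocallyOfFiniteType f] [QuasiCompact f] (r : ℕ) (hr : topologicalKrullDim X ≤ r) :
    ∃ (c : ℝ) (p₀ : ℕ), 0 < c ∧ ∀ (p m : ℕ), p.Prime → 1 ≤ m →
      ∀ (F : Type u) [Field F], Nat.card F = p ^ m →
        (p₀ ≤ p → (Nat.card (Spec (CommRingCat.of F) ⟶ X) : ℝ) ≤
            c * (p : ℝ) ^ ((m : ℝ) * ((r : ℝ) - 1))) ∧
        (p < p₀ → (Nat.card (Spec (CommRingCat.of F) ⟶ X) : ℝ) ≤ c * (p : ℝ) ^ ((m : ℝ) * r)) := by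
  obtain ⟨c, p₀, h⟩ := exists_point_bound f r hr
  refine ⟨c + 1, p₀, by positivity, fun p m hp hm F _ hF => ⟨fun hle => ?_, fun _ => ?_⟩⟩
  · obtain ⟨-, h1, -⟩ := h p m hp hm F hF
    obtain ⟨h2, h3⟩ := h1 hle
    rcases Nat.eq_zero_or_pos r with h0 | h0
    · rw [h3 h0, Nat.cast_zero]
      positivity
    · rw [show (m : ℝ) * ((r : ℝ) - 1) = ((m * (r - 1) : ℕ) : ℝ) by
          rw [Nat.cast_mul, Nat.cast_sub h0, Nat.cast_one], Real.rpow_natCast, pow_mul]
      calc (Nat.card (Spec (CommRingCat.of F) ⟶ X) : ℝ) ≤ ((c * (p ^ m) ^ (r - 1) : ℕ) : ℝ) := by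
            exact_mod_cast h2
        _ ≤ _ := by push_cast; gcongr; linarith
  · obtain ⟨-, -, h2⟩ := h p m hp hm F hF
    rw [show (m : ℝ) * (r : ℝ) = ((m * r : ℕ) : ℝ) by rw [Nat.cast_mul], Real.rpow_natCast, pow_mul]
    calc (Nat.card (Spec (CommRingCat.of F) ⟶ X) : ℝ) ≤ ((c * (p ^ m) ^ r : ℕ) : ℝ) := by exact_mod_cast h2
      _ ≤ _ := by push_cast; gcongr; linarith

end Groth.Agent.H27Zeta
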