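import Groth.Agent.H27Zeta.EulerCycles
import Groth.Agent.H27Zeta.PointBound
import Groth.Prelude.Def_W4c1zetahwZeta
import Mathlib

/-!
# Closed points of arithmetic schemes and their Dirichlet series
-/

set_option autoImplicit false
universe u

noncomputable section

open CategoryTheory AlgebraicGeometry

namespace Groth.Agent.H27Zeta

variable {X : Scheme.{u}}

theorem finite_residueField_of_isClosed (f : X ⟶ Spec (CommRingCat.of (ULift.{u} ℤ)))
    [LocallyOfFiniteType f] {x : X} (hx : IsClosed ({x} : Set X)) : Finite (X.residueField x) := by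
  haveI := (isClosed_singleton_iff_isClosedImmersion).mp hx
  let φ := Spec.preimage (X.fromSpecResidueField x ≫ f)
  have h1 : φ.hom.FiniteType := by
    have h : LocallyOfFiniteType (Spec.map φ) := by rw [Spec.map_preimage]; infer_instance
    exact (HasRingHomProperty.Spec_iff (P := @LocallyOfFiniteType)).mp h
  have h2 : (Int.castRingHom (X.residueField x)).FiniteType := by
    have h3 : φ.hom.comp ((ULift.ringEquiv (R := ℤ)).symm.toRingHom : ℤ →+* ULift.{u} ℤ) =
        Int.castRingHom (X.residueField x) := RingHom.ext_int _ _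
    rw [← h3]
    exact h1.comp (RingHom.FiniteType.of_surjective _ (ULift.ringEquiv (R := ℤ)).symm.surjective)
  haveI : Algebra.FiniteType ℤ (X.residueField x) := by
    rw [← RingHom.finiteType_algebraMap]
    convert h2
    all_goals first | rfl | exact RingHom.ext_int _ _
  exact finite_of_field_finiteType_int _

/-- The closed points of a scheme. -/
abbrev ClPt (X : Scheme.{u}) : Type u := {x : X // IsClosed ({x} : Set X)}

/-- The norm of a closed point. -/
def ptNorm (x : ClPt X) : ℕ := Nat.card (X.residueField x.1)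

theorem two_le_ptNorm (f : X ⟶ Spec (CommRingCat.of (ULift.{u} ℤ))) [LocallyOfFiniteType f] (x : ClPt X) :
    2 ≤ ptNorm x := by
  haveI := finite_residueField_of_isClosed f x.2
  exact Finite.one_lt_card

theorem ptNorm_fibre (f : X ⟶ Spec (CommRingCat.of (ULift.{u} ℤ))) [LocallyOfFiniteType f] [QuasiCompact f]
    {r : ℕ} (hr : topologicalKrullDim X ≤ r) :
    ∃ (c : ℝ) (p₀ : ℕ), 0 < c ∧ ∀ n : ℕ, {x : ClPt X | ptNorm x = n}.Finite ∧
      ((Nat.card {x : ClPt X // ptNorm x = n} : ℝ) ≤ c * (n : ℝ) ^ ((r : ℝ) - 1) ∨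
        ((∃ p m : ℕ, p < p₀ ∧ p.Prime ∧ n = p ^ m) ∧
          (Nat.card {x : ClPt X // ptNorm x = n} : ℝ) ≤ c * (n : ℝ) ^ (r : ℝ))) := by
  classical
  obtain ⟨c, p₀, hc, h⟩ := exists_point_bound_real f r hr
  obtain ⟨c', p₀', h'⟩ := exists_point_bound f r hr
  refine ⟨c, p₀, hc, fun n => ?_⟩
  rcases isEmpty_or_nonempty {x : ClPt X // ptNorm x = n} with he | ⟨⟨x₀, hx₀⟩⟩
  · refine ⟨Set.eq_empty_of_forall_notMem (fun x hx => he.false ⟨x, hx⟩) ▸ Set.finite_empty, Or.inl ?_⟩
    rw [Nat.card_of_isEmpty, Nat.cast_zero]; positivity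
  let F := X.residueField x₀.1
  haveI := finite_residueField_of_isClosed f x₀.2
  cases nonempty_fintype F
  obtain ⟨⟨m, hm⟩, hp, hcard⟩ := FiniteField.card F (ringChar F)
  set p := ringChar F
  have hn : n = p ^ m := by
    rw [← hx₀]; show Nat.card F = _; rw [Nat.card_eq_fintype_card]; exact hcard
  haveI : Fact p.Prime := ⟨hp⟩
  have hF : Nat.card F = p ^ m := by rw [← hn]; exact hx₀
  have hequiv : ∀ x : {x : ClPt X // ptNorm x = n}, Nonempty (X.residueField x.1.1 ≃+* F) := fun x => by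
    haveI := finite_residueField_of_isClosed f x.1.2
    cases nonempty_fintype (X.residueField x.1.1)
    refine ⟨FiniteField.ringEquivOfCardEq ?_⟩
    rw [← Nat.card_eq_fintype_card, ← Nat.card_eq_fintype_card]
    exact x.2.trans (hn.trans hF.symm)
  let Φ : {x : ClPt X // ptNorm x = n} → (Spec (CommRingCat.of F) ⟶ X) := fun x =>
    Spec.map (CommRingCat.ofHom (hequiv x).some.toRingHom) ≫ X.fromSpecResidueField x.1.1
  have hΦ : Function.Injective Φ := fun x y hxy => by
    let pt : ↥(Spec (CommRingCat.of F)) := IsLocalRing.closedPoint F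
    have := congrArg (fun t : Spec (CommRingCat.of F) ⟶ X => t pt) hxy
    dsimp only [Φ] at this
    rw [Scheme.Hom.comp_apply, Scheme.Hom.comp_apply, Scheme.fromSpecResidueField_apply,
      Scheme.fromSpecResidueField_apply] at this
    exact Subtype.ext (Subtype.ext this)
  haveI : Finite (Spec (CommRingCat.of F) ⟶ X) := (h' p m hp hm F hF).1
  haveI : Finite {x : ClPt X // ptNorm x = n} := Finite.of_injective Φ hΦ
  have hle : (Nat.card {x : ClPt X // ptNorm x = n} : ℝ) ≤ Nat.card (Spec (CommRingCat.of F) ⟶ X) := by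
    exact_mod_cast Nat.card_le_card_of_injective Φ hΦ
  obtain ⟨h1, h2⟩ := h p m hp hm F hF
  refine ⟨Set.finite_coe_iff.mp ‹Finite {x : ClPt X // ptNorm x = n}›, ?_⟩
  have hp0 : (0 : ℝ) ≤ p := by positivity
  rcases le_or_gt p₀ p with hp0' | hp0'
  · refine Or.inl (hle.trans ((h1 hp0').trans_eq ?_))
    rw [hn, Nat.cast_pow, ← Real.rpow_natCast (p : ℝ) m, ← Real.rpow_mul hp0]
  · refine Or.inr ⟨⟨p, m, hp0', hp, hn⟩, hle.trans ((h2 hp0').trans_eq ?_)⟩
    rw [hn, Nat.cast_pow, ← Real.rpow_natCast (p : ℝ) m, ← Real.rpow_mul hp0]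

theorem summable_ptNorm (f : X ⟶ Spec (CommRingCat.of (ULift.{u} ℤ))) [LocallyOfFiniteType f] [QuasiCompact f]
    {r : ℕ} (hr : topologicalKrullDim X ≤ r) (σ : ℝ) (hσ : (r : ℝ) < σ) :
    Summable fun x : ClPt X => (ptNorm x : ℝ) ^ (-σ) := by
  classical
  obtain ⟨c, p₀, hc, h⟩ := ptNorm_fibre f hr
  haveI : ∀ n, Finite {x : ClPt X // ptNorm x = n} := fun n => (h n).1.to_subtype
  rw [← (Equiv.sigmaFiberEquiv (ptNorm (X := X))).summable_iff, Function.comp_def,
    summable_sigma_of_nonneg (fun x => Real.rpow_nonneg (Nat.cast_nonneg _) _)]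
  refine ⟨fun n => Summable.of_finite, ?_⟩
  simp only [Equiv.sigmaFiberEquiv_apply]
  let g : ℕ → ℕ → ℝ := fun p n => if ∃ m : ℕ, n = p ^ m then c * (n : ℝ) ^ ((r : ℝ) - σ) else 0
  have hg0 : ∀ p n, 0 ≤ g p n := fun p n => by
    simp only [g]; split_ifs <;> positivity
  have hg : ∀ p ∈ (Finset.range p₀).filter Nat.Prime, Summable (g p) := by
    intro p hp
    have hp2 : 2 ≤ p := (Finset.mem_filter.mp hp).2.two_le
    refine (Function.Injective.summable_iff (g := fun m : ℕ => p ^ m) (Nat.pow_right_injective hp2)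
      fun n hn => if_neg fun ⟨m, hm⟩ => hn ⟨m, hm.symm⟩).mp ?_
    have hr1 : (p : ℝ) ^ ((r : ℝ) - σ) < 1 :=
      Real.rpow_lt_one_of_one_lt_of_neg (by exact_mod_cast hp2) (by linarith)
    refine ((summable_geometric_of_lt_one (by positivity) hr1).mul_left c).congr fun m => ?_
    show _ = if ∃ m', p ^ m = p ^ m' then c * ((p ^ m : ℕ) : ℝ) ^ ((r : ℝ) - σ) else 0
    rw [if_pos ⟨m, rfl⟩, Nat.cast_pow, ← Real.rpow_natCast (p : ℝ) m, ← Real.rpow_mul (Nat.cast_nonneg _),
      ← Real.rpow_natCast _ m, ← Real.rpow_mul (Nat.cast_nonneg _), mul_comm (m : ℝ)]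
  have hbig : Summable fun n : ℕ => c * (n : ℝ) ^ ((r : ℝ) - 1 - σ) :=
    (Real.summable_nat_rpow.mpr (by linarith)).mul_left c
  refine Summable.of_nonneg_of_le (fun n => tsum_nonneg fun x => Real.rpow_nonneg (Nat.cast_nonneg _) _)
    (fun n => ?_) (hbig.add (summable_sum (f := g) hg))
  cases nonempty_fintype {x : ClPt X // ptNorm x = n}
  rw [tsum_fintype, Finset.sum_congr rfl (g := fun _ => (n : ℝ) ^ (-σ)) fun x _ => by
      show (ptNorm x.1 : ℝ) ^ (-σ) = _
      rw [x.2],
    Finset.sum_const, nsmul_eq_mul, Finset.card_univ, ← Nat.card_eq_fintype_card]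
  have hs0 : 0 ≤ ∑ p ∈ (Finset.range p₀).filter Nat.Prime, g p n := Finset.sum_nonneg fun p _ => hg0 p n
  rcases Nat.eq_zero_or_pos n with rfl | hn
  · have : IsEmpty {x : ClPt X // ptNorm x = 0} := ⟨fun x => by
      have := two_le_ptNorm f x.1; omega⟩
    rw [Nat.card_of_isEmpty, Nat.cast_zero, zero_mul]
    positivity
  have hnpos : (0 : ℝ) < n := by exact_mod_cast hn
  rcases (h n).2 with h1 | ⟨⟨p, m, hp0, hp, hnp⟩, h1⟩
  · refine le_add_of_le_of_nonneg ?_ hs0
    calc _ ≤ c * (n : ℝ) ^ ((r : ℝ) - 1) * (n : ℝ) ^ (-σ) := by gcongr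
      _ = _ := by rw [mul_assoc, ← Real.rpow_add hnpos]; ring_nf
  · refine le_add_of_nonneg_of_le (by positivity) ?_
    refine le_trans ?_ (Finset.single_le_sum (fun p _ => hg0 p n)
      (Finset.mem_filter.mpr ⟨Finset.mem_range.mpr hp0, hp⟩))
    calc _ ≤ c * (n : ℝ) ^ (r : ℝ) * (n : ℝ) ^ (-σ) := by gcongr
      _ = g p n := by
        simp only [g]
        rw [if_pos ⟨m, hnp⟩, mul_assoc, ← Real.rpow_add hnpos, sub_eq_add_neg]

theorem cycleNormCount_eq (n : ℕ) :
    Zeta.cycleNormCount X n = Nat.card {α : ClPt X →₀ ℕ // cycNorm ptNorm α = n} := by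
  classical
  unfold Zeta.cycleNormCount
  refine Nat.card_congr
    { toFun := fun a => ⟨Finsupp.subtypeDomain (fun x : X => IsClosed ({x} : Set X)) a.1, ?_⟩
      invFun := fun b => ⟨Finsupp.embDomain (Function.Embedding.subtype _) b.1, ?_, ?_⟩
      left_inv := fun a => Subtype.ext ?_
      right_inv := fun b => Subtype.ext ?_ }
  · refine Eq.trans ?_ a.2.2
    exact Finsupp.prod_subtypeDomain_index (h := fun x m => Nat.card (X.residueField x) ^ m) a.2.1
  · intro x hx
    rw [Finsupp.support_embDomain, Finset.mem_map] at hx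
    obtain ⟨y, -, rfl⟩ := hx
    exact y.2
  · rw [Finsupp.prod_embDomain]
    exact b.2
  · ext x
    by_cases hx : IsClosed ({x} : Set X)
    · exact Finsupp.embDomain_apply_self (Function.Embedding.subtype _) _ (⟨x, hx⟩ : ClPt X)
    · rw [Finsupp.embDomain_notin_range _ _ x (fun ⟨y, hy⟩ => hx (hy ▸ y.2))]
      by_contra h
      exact hx (a.2.1 x (Finsupp.mem_support_iff.mpr (Ne.symm h)))
  · ext x
    exact Finsupp.embDomain_apply_self (Function.Embedding.subtype _) _ x

theorem arith_lseries (f : X ⟶ Spec (CommRingCat.of (ULift.{u} ℤ))) [LocallyOfFiniteType f] [QuasiCompact f]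
    (r : ℕ) (hr : topologicalKrullDim X ≤ r) :
    LSeries.abscissaOfAbsConv (Zeta.arithCoeff X) ≤ (r : ℝ) ∧
      ∀ s : ℂ, (r : ℝ) < s.re → LSeries (Zeta.arithCoeff X) s ≠ 0 := by
  obtain ⟨c, p₀, -, h⟩ := ptNorm_fibre f hr
  have key : ∀ s : ℂ, (r : ℝ) < s.re →
      LSeriesSummable (Zeta.arithCoeff X) s ∧ LSeries (Zeta.arithCoeff X) s ≠ 0 := fun s hs =>
    lseries_cycles (two_le_ptNorm f) (fun n => (h n).1) (Zeta.cycleNormCount X) cycleNormCount_eq s
      ((Nat.cast_nonneg r).trans_lt hs) (summable_ptNorm f hr s.re hs)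
  exact ⟨LSeries.abscissaOfAbsConv_le_of_forall_lt_LSeriesSummable fun y hy =>
    (key y (by simpa using hy)).1, fun s hs => (key s hs).2⟩

end Groth.Agent.H27Zeta
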