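import Groth.Agent.H27Zeta.PointBound
import Groth.Prelude.Def_SgaExt
import Mathlib

/-!
# Point bounds for schemes over a finite field
-/

set_option autoImplicit false
universe u

noncomputable section

open CategoryTheory AlgebraicGeometry

namespace Groth.Agent.H27Zeta

/-- The structure morphism to the integers of a scheme over a finite field. -/
def toInt {k : Type u} [Field k] {X : Scheme.{u}} (f : X ⟶ Spec (CommRingCat.of k)) :
    X ⟶ Spec (CommRingCat.of (ULift.{u} ℤ)) :=
  f ≫ Spec.map (CommRingCat.ofHom ((Int.castRingHom k).comp (ULift.ringEquiv (R := ℤ)).toRingHom))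

instance locallyOfFiniteType_toInt {k : Type u} [Field k] [Finite k] {X : Scheme.{u}}
    (f : X ⟶ Spec (CommRingCat.of k)) [LocallyOfFiniteType f] : LocallyOfFiniteType (toInt f) := by
  have h : ((Int.castRingHom k).comp (ULift.ringEquiv.{_, u} (R := ℤ)).toRingHom).FiniteType := by
    haveI : Module.Finite ℤ k := Module.Finite.of_finite
    have h1 : (Int.castRingHom k).FiniteType := by
      rw [show Int.castRingHom k = algebraMap ℤ k from rfl, RingHom.finiteType_algebraMap]
      infer_instance
    exact h1.comp (RingHom.FiniteType.of_surjective _ (ULift.ringEquiv (R := ℤ)).surjective)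
  haveI : LocallyOfFiniteType (Spec.map (CommRingCat.ofHom
      ((Int.castRingHom k).comp (ULift.ringEquiv (R := ℤ)).toRingHom))) :=
    (HasRingHomProperty.Spec_iff (P := @LocallyOfFiniteType)).mpr h
  unfold toInt; infer_instance

instance quasiCompact_toInt {k : Type u} [Field k] {X : Scheme.{u}}
    (f : X ⟶ Spec (CommRingCat.of k)) [QuasiCompact f] : QuasiCompact (toInt f) := by
  unfold toInt; infer_instance

theorem exists_pointCount_le {k : Type u} [Field k] [Finite k] {X : Scheme.{u}}
    (f : X ⟶ Spec (CommRingCat.of k)) [LocallyOfFiniteType f] [QuasiCompact f] (r : ℕ)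
    (hr : topologicalKrullDim X ≤ r) :
    ∃ c : ℕ, ∀ (k' : Type u) [Field k'] [Algebra k k'] [Finite k'],
      SgaExt.pointCount f k' ≤ c * Nat.card k ^ (r * Module.finrank k k') := by
  obtain ⟨c, p₀, h⟩ := exists_point_bound (toInt f) r hr
  refine ⟨c, fun k' _ _ _ => ?_⟩
  haveI : Module.Finite k k' := Module.Finite.of_finite
  cases nonempty_fintype k'
  obtain ⟨⟨m, hm⟩, hp, hcard⟩ := FiniteField.card k' (ringChar k')
  obtain ⟨hfin, -, hle⟩ := h (ringChar k') m hp hm k' (by rw [Nat.card_eq_fintype_card]; exact hcard)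
  have hle' : Nat.card (Spec (CommRingCat.of k') ⟶ X) ≤ c * Nat.card k ^ (r * Module.finrank k k') := by
    refine hle.trans_eq ?_
    rw [mul_comm r, pow_mul, ← Module.natCard_eq_pow_finrank, Nat.card_eq_fintype_card, hcard]
    rfl
  exact (Nat.card_le_card_of_injective _ Subtype.val_injective).trans hle'

end Groth.Agent.H27Zeta
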