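import Mathlib

/-! Point counts mod p of hypersurfaces of degree n+1 in n+1 variables. -/

open Finset MvPolynomial

namespace Groth.Agent.H27Zeta

/-- The exponent vector with all entries m. -/
noncomputable def diagExp (σ : Type*) [Fintype σ] (m : ℕ) : σ →₀ ℕ :=
  Finsupp.equivFunOnFinite.symm fun _ => m

variable {σ k : Type*} [Fintype σ] [Field k]

lemma degree_eq_sum_univ (d : σ →₀ ℕ) : d.degree = ∑ i, d i :=
  Finset.sum_subset (subset_univ _) fun i _ hi => Finsupp.notMem_support_iff.1 hi

theorem coeff_diag_recursion (p : ℕ) [Fact p.Prime] [CharP k p] (f : MvPolynomial σ k)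
    (hf : f.IsHomogeneous (Fintype.card σ)) (e : ℕ) :
    coeff (diagExp σ (p ^ (e + 1) - 1)) (f ^ (p ^ (e + 1) - 1)) =
      coeff (diagExp σ (p - 1)) (f ^ (p - 1)) *
        coeff (diagExp σ (p ^ e - 1)) (f ^ (p ^ e - 1)) ^ p := by
  classical
  have hp : p.Prime := Fact.out
  set g := f ^ (p ^ e - 1)
  have he : 1 ≤ p ^ e := Nat.one_le_pow _ _ hp.pos
  have hsplit : p ^ (e + 1) - 1 = (p - 1) + (p ^ e - 1) * p := by
    have h1 : (p ^ e - 1) * p + p = p ^ (e + 1) := by
      rw [← Nat.succ_mul, Nat.succ_eq_add_one, Nat.sub_add_cancel he, pow_succ]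
    have := hp.one_le
    omega
  conv_lhs => rw [hsplit, pow_add, pow_mul, ← map_frobenius_expand (R := k) p, coeff_mul]
  rw [Finset.sum_eq_single
    (diagExp σ (p - 1), p • diagExp σ (p ^ e - 1))]
  · rw [coeff_map, coeff_expand_smul p hp.ne_zero, frobenius_def]
  · rintro ⟨u, v⟩ huv hne
    rw [Finset.HasAntidiagonal.mem_antidiagonal] at huv
    by_contra hzero
    simp only [coeff_map, mul_eq_zero, not_or] at hzero
    obtain ⟨hu0, hv0⟩ := hzero
    have hv1 : v ∈ (expand p g).support :=
      mem_support_iff.2 fun h => hv0 (by rw [h, map_zero])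
    rw [support_expand g hp.ne_zero, Finset.mem_image] at hv1
    obtain ⟨m, -, rfl⟩ := hv1
    have hdeg : u.degree = Fintype.card σ * (p - 1) := by
      by_contra h
      exact hu0 ((hf.pow (p - 1)).coeff_eq_zero h)
    have hu : ∀ i, p - 1 ≤ u i := fun i => by
      have h := DFunLike.congr_fun huv i
      simp [diagExp] at h
      by_contra hlt
      push Not at hlt
      have hmod : ((p - 1) + (p ^ e - 1) * p) % p = (u i + p * m i) % p := by rw [h]
      rw [Nat.add_mul_mod_self_right, Nat.add_mul_mod_self_left,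
        Nat.mod_eq_of_lt (Nat.sub_lt hp.pos one_pos),
        Nat.mod_eq_of_lt (lt_of_lt_of_le hlt (Nat.sub_le _ _))] at hmod
      omega
    have hu' : u = diagExp σ (p - 1) := by
      ext i
      by_contra hi
      have hi' : p - 1 < u i := lt_of_le_of_ne (hu i) (fun h => hi (by simp [diagExp, ← h]))
      have := Finset.sum_lt_sum (s := (univ : Finset σ)) (f := fun _ => p - 1) (g := fun i => u i)
        (fun j _ => hu j) ⟨i, mem_univ i, hi'⟩
      rw [sum_const, card_univ, smul_eq_mul, ← degree_eq_sum_univ, hdeg] at this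
      exact lt_irrefl _ this
    subst hu'
    refine hne (Prod.ext rfl ?_)
    refine Finsupp.ext fun i => ?_
    have h := DFunLike.congr_fun huv i
    simp [diagExp] at h ⊢
    rw [mul_comm (p ^ e - 1) p] at h
    exact Or.inl (Nat.eq_of_mul_eq_mul_left hp.pos (by omega))
  · intro h
    exfalso
    apply h
    rw [Finset.HasAntidiagonal.mem_antidiagonal]
    ext i
    simp [diagExp, mul_comm]

theorem coeff_diag_ne_zero_iff (p : ℕ) [Fact p.Prime] [CharP k p] (f : MvPolynomial σ k)
    (hf : f.IsHomogeneous (Fintype.card σ)) (e : ℕ) :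
    coeff (diagExp σ (p ^ (e + 1) - 1)) (f ^ (p ^ (e + 1) - 1)) ≠ 0 ↔
      coeff (diagExp σ (p - 1)) (f ^ (p - 1)) ≠ 0 := by
  have hp : p.Prime := Fact.out
  induction e with
  | zero => simp
  | succ e ih =>
    rw [coeff_diag_recursion p f hf]
    simp only [ne_eq, mul_eq_zero, pow_eq_zero_iff hp.ne_zero] at ih ⊢
    tauto

variable [Fintype k] [DecidableEq σ]

theorem sum_eval_pow (f : MvPolynomial σ k) (hf : f.IsHomogeneous (Fintype.card σ)) :
    ∑ x : σ → k, eval x (f ^ (Fintype.card k - 1)) =
      (-1) ^ Fintype.card σ *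
        coeff (diagExp σ (Fintype.card k - 1)) (f ^ (Fintype.card k - 1)) := by
  classical
  set Q := Fintype.card k - 1 with hQ
  set g := f ^ Q
  have hg := hf.pow Q
  have key : ∀ d : σ →₀ ℕ, d ∈ g.support → (∑ x : σ → k, ∏ i, x i ^ d i) =
      if d = diagExp σ Q then (-1) ^ Fintype.card σ else 0 := by
    intro d hd
    have hprod : (∑ x : σ → k, ∏ i, x i ^ d i) = ∏ i, ∑ a : k, a ^ d i := by
      rw [Finset.prod_univ_sum]; simp
    rw [hprod]
    split_ifs with h
    · subst h
      rw [← card_univ, ← prod_const]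
      refine prod_congr rfl fun i _ => ?_
      have hpos : Q ≠ 0 := by
        have : 2 ≤ Fintype.card k := Fintype.one_lt_card
        omega
      simp only [diagExp, Finsupp.equivFunOnFinite_symm_apply_apply]
      rw [← sum_sdiff ({0} : Finset k).subset_univ, sum_singleton, zero_pow hpos, add_zero]
      rw [sum_congr rfl fun a ha => by
        rw [hQ, FiniteField.pow_card_sub_one_eq_one a (by simpa using ha)]]
      rw [sum_const, nsmul_one, card_sdiff, inter_univ, card_singleton, card_univ,
        Nat.cast_sub Fintype.card_pos, FiniteField.cast_card_eq_zero]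
      simp
    · obtain ⟨i, hi⟩ : ∃ i, d i < Q := by
        by_contra hcon
        push Not at hcon
        apply h
        have hdeg : d.degree = Fintype.card σ * Q := by
          by_contra h'
          exact mem_support_iff.1 hd (hg.coeff_eq_zero h')
        ext i
        by_contra hi
        have hi' : Q < d i := lt_of_le_of_ne (hcon i) (fun h => hi (by simp [diagExp, ← h]))
        have := Finset.sum_lt_sum (s := (univ : Finset σ)) (f := fun _ => Q) (g := fun i => d i)
          (fun j _ => hcon j) ⟨i, mem_univ i, hi'⟩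
        rw [sum_const, card_univ, smul_eq_mul, ← degree_eq_sum_univ, hdeg] at this
        exact lt_irrefl _ this
      exact prod_eq_zero (mem_univ i) (FiniteField.sum_pow_lt_card_sub_one k _ hi)
  simp only [eval_eq']
  rw [sum_comm]
  simp only [← mul_sum]
  rw [sum_congr rfl fun d hd => by rw [key d hd]]
  simp only [mul_ite, mul_zero, sum_ite_eq']
  split_ifs with h
  · rw [mul_comm]
  · rw [notMem_support_iff.1 h, mul_zero]

theorem dvd_card_zeros_iff (p : ℕ) [CharP k p] (hne : Nonempty σ) (f : MvPolynomial σ k)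
    (hf : f.IsHomogeneous (Fintype.card σ)) :
    p ∣ Nat.card {a : σ → k // eval a f = 0} ↔
      coeff (diagExp σ (Fintype.card k - 1)) (f ^ (Fintype.card k - 1)) = 0 := by
  classical
  rw [← CharP.cast_eq_zero_iff k p, Nat.card_eq_fintype_card, Fintype.card_subtype,
    ← Finset.sum_boole]
  have h : ∀ a : σ → k, (if eval a f = 0 then (1 : k) else 0) =
      1 - eval a (f ^ (Fintype.card k - 1)) := by
    intro a
    rw [map_pow]
    split_ifs with h
    · have : 2 ≤ Fintype.card k := Fintype.one_lt_card
      rw [h, zero_pow (by omega), sub_zero]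
    · rw [FiniteField.pow_card_sub_one_eq_one _ h, sub_self]
  rw [sum_congr rfl fun a _ => h a, sum_sub_distrib, sum_eval_pow f hf, sum_const, nsmul_one,
    card_univ, Fintype.card_fun, Nat.cast_pow, FiniteField.cast_card_eq_zero,
    zero_pow Fintype.card_ne_zero, zero_sub, neg_eq_zero, mul_eq_zero, pow_eq_zero_iff']
  simp

end Groth.Agent.H27Zeta
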