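import Mathlib

/-!
# Dirichlet series counting effective cycles: convergence and non-vanishing
-/

set_option autoImplicit false
universe u

noncomputable section

open Finset

namespace Groth.Agent.H27Zeta

variable {ι : Type u} (N : ι → ℕ)

/-- The norm of an effective cycle. -/
def cycNorm (α : ι →₀ ℕ) : ℕ := α.prod fun i m => N i ^ m

/-- The weight of an effective cycle. -/
def cycTerm (t : ι → ℂ) (α : ι →₀ ℕ) : ℂ := α.prod fun i m => t i ^ m

variable {N}

theorem sum_weight_le (u : ι → ℝ) (h0 : ∀ i, 0 ≤ u i) (h1 : ∀ i, u i < 1) (S : Finset ι) :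
    ∀ A : Finset (ι →₀ ℕ), (∀ α ∈ A, α.support ⊆ S) →
      ∑ α ∈ A, (α.prod fun i m => u i ^ m) ≤ ∏ i ∈ S, (1 - u i)⁻¹ := by
  classical
  induction S using Finset.induction with
  | empty =>
    intro A hA
    have hsub : A ⊆ {0} := fun α hα =>
      Finset.mem_singleton.mpr (Finsupp.support_eq_empty.mp (Finset.subset_empty.mp (hA α hα)))
    refine (Finset.sum_le_sum_of_subset_of_nonneg hsub fun α _ _ =>
      Finset.prod_nonneg fun i _ => pow_nonneg (h0 i) _).trans ?_
    simp
  | insert a S ha ih =>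
    intro A hA
    have hsplit : ∀ α : ι →₀ ℕ, (α.prod fun i m => u i ^ m) =
        u a ^ α a * ((α.erase a).prod fun i m => u i ^ m) := fun α =>
      (Finsupp.mul_prod_erase' α a (fun i m => u i ^ m) (fun i => pow_zero (u i))).symm
    let φ : (ι →₀ ℕ) → ℕ × (ι →₀ ℕ) := fun α => (α a, α.erase a)
    have hφ : Function.Injective φ := fun α β h => by
      obtain ⟨h1', h2'⟩ := Prod.mk.inj h
      rw [← Finsupp.single_add_erase a α, ← Finsupp.single_add_erase a β, h1', h2']
    have hA' : ∀ β ∈ A.image (fun α => α.erase a), β.support ⊆ S := by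
      intro β hβ
      obtain ⟨α, hα, rfl⟩ := Finset.mem_image.mp hβ
      rw [Finsupp.support_erase]
      intro i hi
      rw [Finset.mem_erase] at hi
      exact ((Finset.mem_insert.mp (hA α hα hi.2)).resolve_left hi.1)
    have hnn : ∀ β : ι →₀ ℕ, 0 ≤ β.prod fun i m => u i ^ m := fun β =>
      Finset.prod_nonneg fun i _ => pow_nonneg (h0 i) _
    calc ∑ α ∈ A, (α.prod fun i m => u i ^ m)
        = ∑ q ∈ A.image φ, u a ^ q.1 * (q.2.prod fun i m => u i ^ m) := by
          rw [Finset.sum_image (fun α _ β _ h => hφ h)]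
          exact Finset.sum_congr rfl fun α _ => hsplit α
      _ ≤ ∑ q ∈ (A.image fun α => α a) ×ˢ (A.image fun α => α.erase a),
            u a ^ q.1 * (q.2.prod fun i m => u i ^ m) := by
          refine Finset.sum_le_sum_of_subset_of_nonneg (fun q hq => ?_)
            fun q _ _ => mul_nonneg (pow_nonneg (h0 a) _) (hnn _)
          obtain ⟨α, hα, rfl⟩ := Finset.mem_image.mp hq
          exact Finset.mem_product.mpr ⟨Finset.mem_image_of_mem _ hα, Finset.mem_image_of_mem _ hα⟩
      _ = (∑ m ∈ A.image fun α => α a, u a ^ m) * ∑ β ∈ A.image (fun α => α.erase a), (β.prod fun i m => u i ^ m) := by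
          rw [Finset.sum_product, Finset.sum_mul_sum]
      _ ≤ (1 - u a)⁻¹ * ∏ i ∈ S, (1 - u i)⁻¹ := by
          refine mul_le_mul ?_ (ih _ hA') (Finset.sum_nonneg fun β _ => hnn β) (inv_nonneg.mpr (by linarith [h1 a]))
          rw [← tsum_geometric_of_lt_one (h0 a) (h1 a)]
          exact (summable_geometric_of_lt_one (h0 a) (h1 a)).sum_le_tsum _ fun m _ => pow_nonneg (h0 a) _
      _ = ∏ i ∈ insert a S, (1 - u i)⁻¹ := (Finset.prod_insert (f := fun i => (1 - u i)⁻¹) ha).symm

theorem summable_cycTerm (t : ι → ℂ) (hs : Summable fun i => ‖t i‖) (ρ : ℝ) (hρ1 : ρ < 1)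
    (hρ : ∀ i, ‖t i‖ ≤ ρ) : Summable fun α => ‖cycTerm t α‖ := by
  classical
  refine summable_of_sum_le (c := Real.exp ((1 - ρ)⁻¹ * ∑' i, ‖t i‖)) (fun α => norm_nonneg _) fun A => ?_
  have h1 : ∀ i, ‖t i‖ < 1 := fun i => (hρ i).trans_lt hρ1
  have hn : ∀ α, ‖cycTerm t α‖ = α.prod fun i m => ‖t i‖ ^ m := fun α => by
    simp only [cycTerm, Finsupp.prod, norm_prod, norm_pow]
  simp only [hn]
  refine (sum_weight_le (fun i => ‖t i‖) (fun i => norm_nonneg _) h1 (A.sup Finsupp.support) A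
    fun α hα => Finset.le_sup (f := Finsupp.support) hα).trans ?_
  calc ∏ i ∈ A.sup Finsupp.support, (1 - ‖t i‖)⁻¹
      ≤ ∏ i ∈ A.sup Finsupp.support, Real.exp ((1 - ρ)⁻¹ * ‖t i‖) := by
        refine Finset.prod_le_prod (fun i _ => inv_nonneg.mpr (by linarith [h1 i])) fun i _ => ?_
        have hden : 0 < 1 - ‖t i‖ := by linarith [h1 i]
        have hρ0 : 0 < 1 - ρ := by linarith
        calc (1 - ‖t i‖)⁻¹ = 1 + (1 - ‖t i‖)⁻¹ * ‖t i‖ := by field_simp; ring
          _ ≤ 1 + (1 - ρ)⁻¹ * ‖t i‖ := by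
              gcongr
              exact hρ i
          _ ≤ _ := by linarith [Real.add_one_le_exp ((1 - ρ)⁻¹ * ‖t i‖)]
    _ = Real.exp ((1 - ρ)⁻¹ * ∑ i ∈ A.sup Finsupp.support, ‖t i‖) := by rw [← Real.exp_sum, Finset.mul_sum]
    _ ≤ _ := by
        refine Real.exp_le_exp.mpr (mul_le_mul_of_nonneg_left ?_ (inv_nonneg.mpr (by linarith)))
        exact hs.sum_le_tsum _ fun i _ => norm_nonneg _

theorem moebius_eq_one [DecidableEq ι] (ind : Finset ι → (ι →₀ ℕ)) (hsupp : ∀ S, (ind S).support = S)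
    (hone : ∀ i S, i ∈ S → ind S i = 1) (hzero : ∀ i S, i ∉ S → ind S i = 0)
    (G : (ι →₀ ℕ) → Finset ι → ℂ) (hG : Summable fun q : (ι →₀ ℕ) × Finset ι => G q.1 q.2)
    (hkey : ∀ γ : ι →₀ ℕ, ∑ S ∈ γ.support.powerset, G (γ - ind S) S = if γ = 0 then 1 else 0) :
    ∑' q : (ι →₀ ℕ) × Finset ι, G q.1 q.2 = 1 := by
  let e : (Σ γ : ι →₀ ℕ, γ.support.powerset) ≃ (ι →₀ ℕ) × Finset ι :=
    { toFun := fun p => (p.1 - ind p.2.1, p.2.1)
      invFun := fun q => ⟨q.1 + ind q.2, q.2, Finset.mem_powerset.mpr fun i hi => by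
        simp [hone i q.2 hi]⟩
      left_inv := fun p => by
        obtain ⟨γ, S, hS⟩ := p
        have h : γ - ind S + ind S = γ := by
          ext i
          by_cases hi : i ∈ S
          · have := Finsupp.mem_support_iff.mp (Finset.mem_powerset.mp hS hi)
            simp [hone i S hi]; omega
          · simp [hzero i S hi]
        exact Sigma.subtype_ext h rfl
      right_inv := fun q => by
        refine Prod.ext ?_ rfl
        ext i
        simp }
  have hG' : Summable fun p : (Σ γ : ι →₀ ℕ, γ.support.powerset) => G (p.1 - ind p.2.1) p.2.1 :=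
    (e.summable_iff (f := fun q : (ι →₀ ℕ) × Finset ι => G q.1 q.2)).mpr hG
  have h := hG.hasSum
  rw [← e.hasSum_iff] at h
  have h2 := h.sigma (g := fun γ => if γ = 0 then (1 : ℂ) else 0) fun γ => by
    rw [← hkey γ, ← Finset.sum_coe_sort]
    exact hasSum_fintype fun S : γ.support.powerset => G (γ - ind S.1) S.1
  rw [← h2.tsum_eq, tsum_ite_eq]

theorem tsum_cycTerm_mul_tsum (t : ι → ℂ) (hs : Summable fun i => ‖t i‖) (ρ : ℝ) (hρ1 : ρ < 1)
    (hρ : ∀ i, ‖t i‖ ≤ ρ) :
    (Summable fun S : Finset ι => ∏ i ∈ S, -t i) ∧ (∑' α, cycTerm t α) * (∑' S : Finset ι, ∏ i ∈ S, -t i) = 1 := by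
  classical
  have hT := summable_cycTerm t hs ρ hρ1 hρ
  let ind : Finset ι → (ι →₀ ℕ) := fun S => Finsupp.indicator S fun _ _ => 1
  have hind_supp : ∀ S, (ind S).support = S := fun S => by ext i; simp [ind]
  have hind : Function.Injective ind := fun S S' h => by rw [← hind_supp S, h, hind_supp]
  let V : Finset ι → ℂ := fun S => ∏ i ∈ S, -t i
  have hVn : ∀ S, ‖V S‖ = ‖cycTerm t (ind S)‖ := fun S => by
    simp only [V, cycTerm, Finsupp.prod, hind_supp, norm_prod, norm_neg, norm_pow]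
    exact Finset.prod_congr rfl fun i hi => by simp [ind, hi]
  have hV : Summable fun S => ‖V S‖ := by simp only [hVn]; exact hT.comp_injective hind
  have hprod := tsum_mul_tsum_of_summable_norm hT hV
  have hkey : ∀ γ : ι →₀ ℕ, ∑ S ∈ γ.support.powerset, cycTerm t (γ - ind S) * V S =
      if γ = 0 then 1 else 0 := by
    intro γ
    have hterm : ∀ S ∈ γ.support.powerset, cycTerm t (γ - ind S) * V S = cycTerm t γ * (-1 : ℂ) ^ S.card := by
      intro S hS
      have hS' := Finset.mem_powerset.mp hS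
      have hS3 : ∏ i ∈ S, t i = ∏ i ∈ γ.support, if i ∈ S then t i else 1 := by
        rw [Finset.prod_ite_mem, Finset.inter_eq_right.mpr hS']
      simp only [cycTerm, V]
      rw [Finsupp.prod_of_support_subset _ (Finsupp.support_tsub (f2 := ind S)) _ (fun i _ => pow_zero (t i)),
        Finset.prod_neg, hS3, mul_left_comm, ← Finset.prod_mul_distrib, mul_comm]
      congr 1
      refine Finset.prod_congr rfl fun i hi => ?_
      by_cases his : i ∈ S
      · have := Finsupp.mem_support_iff.mp hi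
        simp only [Finsupp.coe_tsub, Pi.sub_apply, ind, Finsupp.indicator_of_mem his, if_pos his]
        rw [← pow_succ, Nat.sub_add_cancel (Nat.one_le_iff_ne_zero.mpr this)]
      · simp [ind, his]
    rw [Finset.sum_congr rfl hterm, ← Finset.mul_sum]
    have hzc := congrArg (Int.cast : ℤ → ℂ) (Finset.sum_powerset_neg_one_pow_card (x := γ.support))
    push_cast at hzc
    rw [hzc]
    by_cases h : γ = 0
    · simp [h, cycTerm]
    · simp [h]
  have h1 : (∑' α, cycTerm t α) * (∑' S, V S) = 1 := by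
    rw [hprod]
    refine moebius_eq_one ind hind_supp (fun i S hi => by simp [ind, hi]) (fun i S hi => by simp [ind, hi])
      (fun α S => cycTerm t α * V S) (summable_mul_of_summable_norm hT hV) hkey
  exact ⟨hV.of_norm, h1⟩

theorem tsum_cycTerm_ne_zero (t : ι → ℂ) (hs : Summable fun i => ‖t i‖) (ρ : ℝ) (hρ1 : ρ < 1)
    (hρ : ∀ i, ‖t i‖ ≤ ρ) : ∑' α, cycTerm t α ≠ 0 :=
  left_ne_zero_of_mul_eq_one (tsum_cycTerm_mul_tsum t hs ρ hρ1 hρ).2

theorem natCast_cycNorm_cpow (s : ℂ) (α : ι →₀ ℕ) :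
    ((cycNorm N α : ℕ) : ℂ) ^ (-s) = cycTerm (fun i => (N i : ℂ) ^ (-s)) α := by
  classical
  simp only [cycNorm, cycTerm, Finsupp.prod]
  induction α.support using Finset.induction with
  | empty => simp
  | insert i S hi ih =>
    rw [Finset.prod_insert hi, Finset.prod_insert hi, Nat.cast_mul, Complex.natCast_mul_natCast_cpow, ih]
    congr 1
    induction α i with
    | zero => simp
    | succ m ihm => rw [pow_succ, pow_succ, Nat.cast_mul, Complex.natCast_mul_natCast_cpow, ihm]

theorem finite_cycNorm_fibre (h2 : ∀ i, 2 ≤ N i) (hfin : ∀ n, {i | N i = n}.Finite) (n : ℕ) :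
    {α : ι →₀ ℕ | cycNorm N α = n}.Finite := by
  classical
  rcases Nat.eq_zero_or_pos n with rfl | hn
  · refine Set.Finite.subset Set.finite_empty fun α hα => ?_
    have hne : cycNorm N α ≠ 0 := Finset.prod_ne_zero_iff.mpr fun i _ => pow_ne_zero _ (by have := h2 i; omega)
    exact hne hα
  · let S := ((Finset.range (n + 1)).biUnion fun d => (hfin d).toFinset)
    refine (Finset.finite_toSet (S.finsupp fun _ => Finset.range (n + 1))).subset fun α hα => ?_
    have hle : ∀ i ∈ α.support, N i ^ α i ≤ n := fun i hi => by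
      rw [← (hα : cycNorm N α = n)]
      exact Nat.le_of_dvd (by rw [(hα : cycNorm N α = n)]; exact hn) (Finset.dvd_prod_of_mem _ hi)
    rw [Finset.mem_coe, Finset.mem_finsupp_iff]
    refine ⟨fun i hi => ?_, fun i _ => ?_⟩
    · simp only [S, Finset.mem_biUnion, Finset.mem_range, Set.Finite.mem_toFinset, Set.mem_ofPred_eq]
      exact ⟨N i, Nat.lt_succ_of_le ((Nat.le_self_pow (Finsupp.mem_support_iff.mp hi) _).trans (hle i hi)), rfl⟩
    · rw [Finset.mem_range]
      by_cases hi : i ∈ α.support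
      · have := Nat.lt_pow_self (n := α i) (lt_of_lt_of_le one_lt_two (h2 i))
        have := hle i hi
        omega
      · rw [Finsupp.notMem_support_iff.mp hi]; omega

/-- The Dirichlet series of an effective-cycle count converges and does not vanish. -/
theorem lseries_cycles (h2 : ∀ i, 2 ≤ N i) (hfin : ∀ n, {i | N i = n}.Finite) (a : ℕ → ℕ)
    (ha : ∀ n, a n = Nat.card {α : ι →₀ ℕ // cycNorm N α = n}) (s : ℂ) (hσ : 0 < s.re)
    (hs : Summable fun i => (N i : ℝ) ^ (-s.re)) :
    LSeriesSummable (fun n => (a n : ℂ)) s ∧ LSeries (fun n => (a n : ℂ)) s ≠ 0 := by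
  classical
  set t : ι → ℂ := fun i => (N i : ℂ) ^ (-s)
  have htn : ∀ i, ‖t i‖ = (N i : ℝ) ^ (-s.re) := fun i => by
    simp only [t, Complex.norm_natCast_cpow_of_pos (show 0 < N i by have := h2 i; omega), Complex.neg_re]
  have hsum : Summable fun i => ‖t i‖ := by simpa only [htn] using hs
  have hρ : ∀ i, ‖t i‖ ≤ (2 : ℝ) ^ (-s.re) := fun i => by
    rw [htn]
    exact Real.rpow_le_rpow_of_nonpos two_pos (by exact_mod_cast h2 i) (by linarith)
  have hρ1 : (2 : ℝ) ^ (-s.re) < 1 := Real.rpow_lt_one_of_one_lt_of_neg one_lt_two (by linarith)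
  have hT := summable_cycTerm t hsum _ hρ1 hρ
  let e := Equiv.sigmaFiberEquiv (cycNorm N)
  haveI : ∀ n, Finite {α : ι →₀ ℕ // cycNorm N α = n} := fun n => (finite_cycNorm_fibre h2 hfin n).to_subtype
  have hterm : ∀ n, HasSum (fun α : {α : ι →₀ ℕ // cycNorm N α = n} => cycTerm t α.1)
      (LSeries.term (fun n => (a n : ℂ)) s n) := by
    intro n
    cases nonempty_fintype {α : ι →₀ ℕ // cycNorm N α = n}
    convert hasSum_fintype (fun α : {α : ι →₀ ℕ // cycNorm N α = n} => cycTerm t α.1) using 1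
    rw [Finset.sum_congr rfl fun α _ => show cycTerm t α.1 = (n : ℂ) ^ (-s) by
      rw [← natCast_cycNorm_cpow, α.2], Finset.sum_const, Finset.card_univ, ← Nat.card_eq_fintype_card,
      ← ha, nsmul_eq_mul]
    rcases Nat.eq_zero_or_pos n with rfl | hn
    · simp [Complex.zero_cpow (neg_ne_zero.mpr fun h : s = 0 => by rw [h] at hσ; simp at hσ)]
    · rw [LSeries.term_of_ne_zero hn.ne', Complex.cpow_neg, div_eq_mul_inv]
  have hL := ((e.hasSum_iff (f := cycTerm t)).mpr hT.of_norm.hasSum).sigma hterm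
  refine ⟨hL.summable, ?_⟩
  rw [LSeries, hL.tsum_eq]
  exact tsum_cycTerm_ne_zero t hsum _ hρ1 hρ

end Groth.Agent.H27Zeta
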