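import Groth.Agent.H27Weil.ZetaFormula
import Mathlib

/-!
# Exponential of the logarithms of the factors `1 - a t^r`
-/

set_option autoImplicit false

noncomputable section

open PowerSeries

namespace Groth.Agent.H27Zeta

variable {K : Type*} [Field K] [CharZero K]

/-- The logarithm of `1 - a t^r`. -/
def logFac (a : K) (r : ℕ) : PowerSeries K :=
  PowerSeries.mk fun m => if r ∣ m then -((r : K) * a ^ (m / r)) / (m : K) else 0

theorem constantCoeff_logFac (a : K) (r : ℕ) : constantCoeff (logFac a r) = 0 := by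
  rw [← coeff_zero_eq_constantCoeff_apply, logFac, coeff_mk]
  simp

theorem exp_subst_logFac (a : K) (r : ℕ) (hr : r ≠ 0) :
    (PowerSeries.exp K).subst (logFac a r) = 1 - C a * X ^ r := by
  refine (eq_exp_subst (constantCoeff_logFac a r) (by simp [hr]) ?_).symm
  have hd : ∀ n : ℕ, coeff n (derivative K (logFac a r)) =
      if r ∣ n + 1 then -((r : K) * a ^ ((n + 1) / r)) else 0 := by
    intro n
    rw [coeff_derivative, logFac, coeff_mk]
    have : ((n + 1 : ℕ) : K) ≠ 0 := Nat.cast_ne_zero.mpr n.succ_ne_zero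
    split_ifs <;> push_cast at this ⊢ <;> field_simp
    ring
  ext n
  rw [coeff_derivative, map_sub, coeff_one, if_neg n.succ_ne_zero, zero_sub, coeff_C_mul, coeff_X_pow,
    sub_mul, one_mul, map_sub, mul_assoc, coeff_C_mul, coeff_X_pow_mul', hd]
  rcases lt_or_ge n r with h | h
  · rw [if_neg (show ¬ r ≤ n by omega), mul_zero, sub_zero]
    by_cases h1 : n + 1 = r
    · rw [if_pos h1, if_pos (h1 ▸ dvd_rfl), h1, Nat.div_self (Nat.pos_of_ne_zero hr), pow_one]
      have : ((n : K) + 1) = (r : K) := by rw [← h1]; push_cast; ring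
      rw [this]; ring
    · rw [if_neg h1, if_neg (fun hd' => h1 (le_antisymm (by omega) (Nat.le_of_dvd n.succ_pos hd')))]
      ring
  · rw [if_neg (show ¬ n + 1 = r by omega), if_pos h, hd, show n - r + 1 = n + 1 - r by omega]
    by_cases h1 : r ∣ n + 1
    · rw [if_pos h1, if_pos (Nat.dvd_sub h1 dvd_rfl),
        Nat.div_eq_sub_div (Nat.pos_of_ne_zero hr) (show r ≤ n + 1 by omega), pow_succ]
      ring
    · rw [if_neg h1, if_neg (fun h2 => h1 (by simpa [show n + 1 - r + r = n + 1 by omega] using Nat.dvd_add h2 dvd_rfl))]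
      ring

theorem exp_subst_nsmul {L : PowerSeries K} (hL : constantCoeff L = 0) :
    ∀ c : ℕ, (PowerSeries.exp K).subst (c • L) = (PowerSeries.exp K).subst L ^ c := by
  intro c
  have h := H27Weil.exp_subst_sum (A := K) (Finset.range c) (fun _ => L) (fun _ _ => hL)
  simpa using h

theorem exp_subst_sum_logFac {ι : Type*} (s : Finset ι) (a : ι → K) (r c : ι → ℕ) (hr : ∀ i ∈ s, r i ≠ 0) :
    (PowerSeries.exp K).subst (∑ i ∈ s, c i • logFac (a i) (r i)) =
      ∏ i ∈ s, (1 - C (a i) * X ^ r i) ^ c i := by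
  rw [H27Weil.exp_subst_sum s _ fun i _ => by rw [map_nsmul, constantCoeff_logFac, nsmul_zero]]
  exact Finset.prod_congr rfl fun i hi => by
    rw [exp_subst_nsmul (constantCoeff_logFac _ _), exp_subst_logFac _ _ (hr i hi)]

theorem trunc_exp_subst {L : PowerSeries K} (n : ℕ) (hL : ∀ m ≤ n, coeff m L = 0) :
    trunc (n + 1) ((PowerSeries.exp K).subst L) = 1 := by
  have h0 : constantCoeff L = 0 := by rw [← coeff_zero_eq_constantCoeff_apply]; exact hL 0 n.zero_le
  obtain ⟨M, hM⟩ : X ^ (n + 1) ∣ L := X_pow_dvd_iff.mpr fun m hm => hL m (by omega)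
  ext m
  rw [coeff_trunc, Polynomial.coeff_one]
  by_cases hm : m < n + 1
  · rw [if_pos hm, coeff_subst' (HasSubst.of_constantCoeff_zero' h0), finsum_eq_single _ 0 fun d hd => ?_]
    · simp [coeff_one]
    · have : coeff m (L ^ d) = 0 :=
        X_pow_dvd_iff.mp ((dvd_pow_self _ hd).trans (pow_dvd_pow_of_dvd (Dvd.intro M hM.symm) d)) m hm
      rw [this, smul_zero]
  · rw [if_neg hm, if_neg (by omega)]

end Groth.Agent.H27Zeta
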