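import Mathlib

/-! # Every rational hyperplane is tangent to the Frobenius-symplectic hypersurface -/

set_option autoImplicit false
set_option linter.unusedSectionVars false

noncomputable section

universe u

namespace Groth.Agent.H27Zeta.TangentHyp

/-- Extending jets along a formally smooth algebra. -/
theorem exists_jet_lift {k S T : Type u} [CommRing k] [CommRing S] [CommRing T] [Algebra k S] [Algebra k T]
    [Algebra.FormallySmooth k S] (ε : T) {N : ℕ} (hN : 2 ≤ N) (φ : S →ₐ[k] T ⧸ Ideal.span {ε ^ 2}) :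
    ∃ ψ : S →ₐ[k] T ⧸ Ideal.span {ε ^ N}, ∀ s (t : T), ψ s = Ideal.Quotient.mk _ t →
      φ s = Ideal.Quotient.mk _ t := by
  have hle : Ideal.span {ε ^ N} ≤ Ideal.span {ε ^ 2} :=
    Ideal.span_singleton_le_span_singleton.mpr (pow_dvd_pow _ hN)
  let π : (T ⧸ Ideal.span {ε ^ N}) →ₐ[k] T ⧸ Ideal.span {ε ^ 2} := Ideal.Quotient.factorₐ k hle
  have hπ : Function.Surjective π := Ideal.Quotient.factor_surjective hle
  have hker : RingHom.ker (π : (T ⧸ Ideal.span {ε ^ N}) →+* T ⧸ Ideal.span {ε ^ 2}) ≤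
      Ideal.span {Ideal.Quotient.mk (Ideal.span {ε ^ N}) (ε ^ 2)} := by
    intro z hz
    obtain ⟨z, rfl⟩ := Ideal.Quotient.mk_surjective z
    obtain ⟨r, rfl⟩ := Ideal.mem_span_singleton.mp (Ideal.Quotient.eq_zero_iff_mem.mp hz)
    rw [map_mul]
    exact Ideal.mul_mem_right _ _ (Ideal.mem_span_singleton_self _)
  have hnil : IsNilpotent (RingHom.ker (π : (T ⧸ Ideal.span {ε ^ N}) →+* T ⧸ Ideal.span {ε ^ 2})) := by
    refine ⟨N, le_bot_iff.mp ((Ideal.pow_right_mono hker N).trans ?_)⟩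
    rw [Ideal.span_singleton_pow, Ideal.span_le, Set.singleton_subset_iff, SetLike.mem_coe, Ideal.mem_bot,
      ← map_pow, Ideal.Quotient.eq_zero_iff_mem, Ideal.mem_span_singleton, ← pow_mul]
    exact pow_dvd_pow _ (by omega)
  refine ⟨Algebra.FormallySmooth.liftOfSurjective φ π hπ hnil, fun s t hs => ?_⟩
  rw [← Algebra.FormallySmooth.liftOfSurjective_apply φ π hπ hnil s, hs]
  rfl

/-- Evaluation of a linear form. -/
theorem aeval_linear {k T : Type u} {σ : Type*} [CommRing k] [CommRing T] [Algebra k T] [Fintype σ] (c : σ → k) (g : σ → T) :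
    MvPolynomial.aeval g (∑ a, MvPolynomial.C (c a) * MvPolynomial.X a) = ∑ a, algebraMap k T (c a) * g a := by
  simp

/-- Extending a map to a localization away from an element. -/
theorem exists_away_lift {k R T : Type u} [CommRing k] [CommRing R] [CommRing T] [Algebra k R] [Algebra k T]
    (x : R) (φ : R →ₐ[k] T) (hx : IsUnit (φ x)) :
    ∃ φ' : Localization.Away x →ₐ[k] T, ∀ y, φ' (algebraMap R (Localization.Away x) y) = φ y :=
  ⟨IsLocalization.liftAlgHom (M := Submonoid.powers x) (S := Localization.Away x) (f := φ)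
      (fun y => by obtain ⟨_, t, rfl⟩ := y; rw [map_pow]; exact hx.pow t),
    fun y => by rw [IsLocalization.liftAlgHom_apply, IsLocalization.lift_eq]; rfl⟩

/-- The expansion of `Σ x y^q - y x^q` along a jet. -/
theorem jet_expansion {k T : Type u} [Field k] [Fintype k] [CommRing T] [Algebra k T] (ℓ : ℕ) [Fact ℓ.Prime]
    [CharP k ℓ] [CharP T ℓ] {n : ℕ} (ε : T)
    (F L : MvPolynomial (Fin (n + 1) ⊕ Fin (n + 1)) k)
    (hF : F = ∑ i : Fin (n + 1), (MvPolynomial.X (Sum.inl i) * MvPolynomial.X (Sum.inr i) ^ Fintype.card k -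
      MvPolynomial.X (Sum.inr i) * MvPolynomial.X (Sum.inl i) ^ Fintype.card k))
    (c : Fin (n + 1) ⊕ Fin (n + 1) → k)
    (hL : L = ∑ v, MvPolynomial.C (c v) * MvPolynomial.X v)
    (v : Fin (n + 1) ⊕ Fin (n + 1) → T) (hv : ∑ a, algebraMap k T (c a) * v a = 0)
    (r : Fin (n + 1) ⊕ Fin (n + 1) → T) :
    ∃ d, MvPolynomial.aeval (fun a => algebraMap k T (Sum.elim (fun i => -c (Sum.inr i)) (fun i => c (Sum.inl i)) a)
          + ε * v a + ε ^ 2 * r a) F =
      MvPolynomial.aeval (fun a => algebraMap k T (Sum.elim (fun i => -c (Sum.inr i)) (fun i => c (Sum.inl i)) a)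
          + ε * v a + ε ^ 2 * r a) L +
        ε ^ (Fintype.card k + 1) * (∑ a : Fin (n + 1), (v (Sum.inl a) * v (Sum.inr a) ^ Fintype.card k -
          v (Sum.inr a) * v (Sum.inl a) ^ Fintype.card k)) + ε ^ (Fintype.card k + 2) * d := by
  classical
  set q := Fintype.card k with hq
  have hq2 : 2 ≤ q := Fintype.one_lt_card
  obtain ⟨m, -, hqm⟩ := FiniteField.card k ℓ
  rw [← hq] at hqm
  have hfix : ∀ x : k, algebraMap k T x ^ q = algebraMap k T x := fun x => by
    rw [← map_pow, hq, FiniteField.pow_card]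
  let P : Fin (n + 1) ⊕ Fin (n + 1) → k := Sum.elim (fun i => -c (Sum.inr i)) (fun i => c (Sum.inl i))
  let g : Fin (n + 1) ⊕ Fin (n + 1) → T := fun a => algebraMap k T (P a) + ε * v a + ε ^ 2 * r a
  have hpow : ∀ a, g a ^ q = algebraMap k T (P a) + ε ^ q * v a ^ q + ε ^ (2 * q) * r a ^ q := by
    intro a
    show (algebraMap k T (P a) + ε * v a + ε ^ 2 * r a) ^ q = _
    conv_lhs => rw [hqm, add_pow_expChar_pow, add_pow_expChar_pow]
    rw [← hqm, mul_pow, mul_pow, hfix, pow_mul]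
  refine ⟨∑ b : Fin (n + 1), (r (Sum.inl b) * v (Sum.inr b) ^ q - r (Sum.inr b) * v (Sum.inl b) ^ q
      + ε ^ (q - 2) * (g (Sum.inl b) * r (Sum.inr b) ^ q - g (Sum.inr b) * r (Sum.inl b) ^ q)), ?_⟩
  have h1 : ∑ b : Fin (n + 1), (algebraMap k T (P (Sum.inl b)) * v (Sum.inr b) ^ q
      - algebraMap k T (P (Sum.inr b)) * v (Sum.inl b) ^ q) = 0 := by
    have h2 : (∑ a, algebraMap k T (c a) * v a) ^ q = 0 := by rw [hv, zero_pow (by omega)]
    rw [hqm, sum_pow_char_pow, ← hqm, Fintype.sum_sum_type] at h2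
    simp only [mul_pow, hfix] at h2
    simp only [P, Sum.elim_inl, Sum.elim_inr, map_neg, Finset.sum_sub_distrib, neg_mul, Finset.sum_neg_distrib]
    linear_combination -h2
  have hFe : MvPolynomial.aeval g F =
      ∑ b : Fin (n + 1), (g (Sum.inl b) * g (Sum.inr b) ^ q - g (Sum.inr b) * g (Sum.inl b) ^ q) := by
    rw [hF]; simp [hq]
  have hLe : MvPolynomial.aeval g L = ∑ b : Fin (n + 1),
      (algebraMap k T (c (Sum.inl b)) * g (Sum.inl b) + algebraMap k T (c (Sum.inr b)) * g (Sum.inr b)) := by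
    rw [hL, aeval_linear]
    simp only [Fintype.sum_sum_type, Finset.sum_add_distrib]
  show MvPolynomial.aeval g F = MvPolynomial.aeval g L + _ + _
  obtain ⟨q', hq'⟩ : ∃ q', q = q' + 2 := ⟨q - 2, by omega⟩
  rw [hFe, hLe, Finset.mul_sum, Finset.mul_sum]
  have key := congrArg (fun z => ε ^ q * z) h1
  simp only [mul_zero, Finset.mul_sum] at key
  rw [← Finset.sum_add_distrib, ← Finset.sum_add_distrib, ← sub_eq_zero, ← Finset.sum_sub_distrib, ← key]
  refine Finset.sum_congr rfl fun b _ => ?_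
  simp only [hpow]
  simp only [g, P, Sum.elim_inl, Sum.elim_inr, map_neg, hq', Nat.add_sub_cancel]
  ring

open Polynomial in
theorem not_formallySmooth (k : Type u) [Field k] [Fintype k] (n : ℕ) (hn : 1 ≤ n)
    (F L : MvPolynomial (Fin (n + 1) ⊕ Fin (n + 1)) k)
    (hF : F = ∑ i : Fin (n + 1), (MvPolynomial.X (Sum.inl i) * MvPolynomial.X (Sum.inr i) ^ Fintype.card k -
      MvPolynomial.X (Sum.inr i) * MvPolynomial.X (Sum.inl i) ^ Fintype.card k))
    (c : Fin (n + 1) ⊕ Fin (n + 1) → k) (hc : c ≠ 0)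
    (hL : L = ∑ v, MvPolynomial.C (c v) * MvPolynomial.X v) :
    ∃ w, ¬ Algebra.FormallySmooth k (Localization.Away (Ideal.Quotient.mk (Ideal.span {F, L}) (MvPolynomial.X w))) := by
  classical
  obtain ⟨wj, hwj⟩ : ∃ v, c v ≠ 0 := Function.ne_iff.mp hc
  obtain ⟨ℓ, hℓ⟩ := CharP.exists k
  haveI := hℓ
  obtain ⟨-, hℓp, -⟩ := FiniteField.card k ℓ
  haveI := Fact.mk hℓp
  have hq2 : 2 ≤ Fintype.card k := Fintype.one_lt_card
  let j : Fin (n + 1) := Sum.elim id id wj
  obtain ⟨i, hij⟩ : ∃ i, i ≠ j := by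
    haveI : Nontrivial (Fin (n + 1)) := Fin.nontrivial_iff_two_le.mpr (by omega)
    exact exists_ne j
  -- the direction
  let v : Fin (n + 1) ⊕ Fin (n + 1) → k[X] := fun a =>
    if a = Sum.inl i then 1 else if a = Sum.inr i then Polynomial.X
    else if a = wj then -Polynomial.C ((c wj)⁻¹) * (Polynomial.C (c (Sum.inl i)) + Polynomial.C (c (Sum.inr i)) * Polynomial.X)
    else 0
  have hwi : wj ≠ Sum.inl i ∧ wj ≠ Sum.inr i := by
    constructor <;> (intro e; apply hij; simp [j, e])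
  have hLv : ∑ a, Polynomial.C (c a) * v a = 0 := by
    rw [← Finset.sum_subset (Finset.subset_univ {Sum.inl i, Sum.inr i, wj}) (fun a _ ha => by
      simp only [Finset.mem_insert, Finset.mem_singleton, not_or] at ha
      simp [v, ha.1, ha.2.1, ha.2.2]),
      Finset.sum_insert (by simp [Ne.symm hwi.1]), Finset.sum_insert (by simp [Ne.symm hwi.2]), Finset.sum_singleton]
    simp only [v, if_pos, if_neg (Sum.inr_ne_inl : (Sum.inr i : Fin (n + 1) ⊕ Fin (n + 1)) ≠ Sum.inl i),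
      if_neg hwi.1, if_neg hwi.2]
    have h1 : Polynomial.C (c wj) * Polynomial.C ((c wj)⁻¹) = 1 := by
      rw [← Polynomial.C_mul, mul_inv_cancel₀ hwj, Polynomial.C_1]
    linear_combination (-(Polynomial.C (c (Sum.inl i)) + Polynomial.C (c (Sum.inr i)) * Polynomial.X)) * h1
  have hFv : ∑ a : Fin (n + 1), (v (Sum.inl a) * v (Sum.inr a) ^ Fintype.card k -
      v (Sum.inr a) * v (Sum.inl a) ^ Fintype.card k) ≠ 0 := by
    rw [Finset.sum_eq_single i]
    · simp only [v, if_pos, if_neg (Sum.inr_ne_inl : (Sum.inr i : Fin (n + 1) ⊕ Fin (n + 1)) ≠ Sum.inl i),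
        one_pow, one_mul, mul_one]
      intro h
      have := congrArg (fun f : k[X] => f.coeff 1) h
      simp [Polynomial.coeff_X_pow, show ¬(1 = Fintype.card k) by omega] at this
    · intro a _ hai
      have hz : v (Sum.inl a) = 0 ∨ v (Sum.inr a) = 0 := by
        by_cases ha : Sum.inl a = wj
        · right; simp [v, hai, ← ha]
        · left; simp [v, hai, ha]
      rcases hz with h | h <;> rw [h] <;> simp [zero_pow (show Fintype.card k ≠ 0 by omega)]
    · simp
  refine ⟨Sum.elim Sum.inr Sum.inl wj, fun hS => ?_⟩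
  set w := Sum.elim Sum.inr Sum.inl wj with hw
  let P : Fin (n + 1) ⊕ Fin (n + 1) → k := Sum.elim (fun i => -c (Sum.inr i)) (fun i => c (Sum.inl i))
  have hPw : P w ≠ 0 := by
    rcases wj with j | j
    · simpa [w, P] using hwj
    · simpa [w, P] using hwj
  let T := k[X][X]
  let ε : T := Polynomial.X
  let vT : Fin (n + 1) ⊕ Fin (n + 1) → T := fun a => Polynomial.C (v a)
  haveI : CharP T ℓ := inferInstanceAs (CharP k[X][X] ℓ)
  have halg : ∀ x : k, algebraMap k T x = Polynomial.C (Polynomial.C x) := fun x => rfl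
  have hvT : ∑ a, algebraMap k T (c a) * vT a = 0 := by
    calc ∑ a, algebraMap k T (c a) * vT a = Polynomial.C (∑ a, Polynomial.C (c a) * v a) := by
          rw [map_sum]
          exact Finset.sum_congr rfl fun a _ => by rw [halg, map_mul]
      _ = 0 := by rw [hLv, map_zero]
  let pt : Fin (n + 1) ⊕ Fin (n + 1) → T := fun a => algebraMap k T (P a) + ε * vT a
  let φP : MvPolynomial (Fin (n + 1) ⊕ Fin (n + 1)) k →ₐ[k] T ⧸ Ideal.span {ε ^ 2} :=
    (Ideal.Quotient.mkₐ k _).comp (MvPolynomial.aeval pt)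
  have hLP : MvPolynomial.aeval pt L = 0 := by
    have h0 : ∑ a, c a * P a = 0 := by
      rw [Fintype.sum_sum_type, ← Finset.sum_add_distrib]
      exact Finset.sum_eq_zero fun b _ => by simp [P]; ring
    rw [hL, aeval_linear]
    simp only [pt, mul_add, Finset.sum_add_distrib, mul_left_comm _ ε, ← Finset.mul_sum, hvT, mul_zero, add_zero]
    rw [show ∑ a, algebraMap k T (c a) * algebraMap k T (P a) = algebraMap k T (∑ a, c a * P a) by
      rw [map_sum]; simp only [map_mul], h0, map_zero]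
  have hpt0 : (fun a => algebraMap k T (P a) + ε * vT a + ε ^ 2 * (0 : T)) = pt := funext fun a => by
    rw [mul_zero, add_zero]
  have hkill : ∀ f ∈ Ideal.span {F, L}, φP f = 0 := by
    intro f hf
    suffices Ideal.span {F, L} ≤ RingHom.ker φP from this hf
    rw [Ideal.span_le, Set.insert_subset_iff, Set.singleton_subset_iff]
    simp only [SetLike.mem_coe, RingHom.mem_ker, φP, AlgHom.comp_apply, Ideal.Quotient.mkₐ_eq_mk,
      Ideal.Quotient.eq_zero_iff_mem, Ideal.mem_span_singleton]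
    refine ⟨?_, by rw [hLP]; exact Ideal.zero_mem _⟩
    obtain ⟨d, hd⟩ := jet_expansion ℓ ε F L hF c hL vT hvT fun _ => 0
    rw [hpt0] at hd
    rw [hd, hLP, zero_add]
    refine Ideal.mem_span_singleton.mpr ?_
    exact dvd_add (dvd_mul_of_dvd_left (pow_dvd_pow _ (by omega)) _) (dvd_mul_of_dvd_left (pow_dvd_pow _ (by omega)) _)
  let φR : (MvPolynomial (Fin (n + 1) ⊕ Fin (n + 1)) k ⧸ Ideal.span {F, L}) →ₐ[k] T ⧸ Ideal.span {ε ^ 2} :=
    Ideal.Quotient.liftₐ _ φP hkill
  set rw' := Ideal.Quotient.mk (Ideal.span {F, L}) (MvPolynomial.X w) with hrw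
  have hunit : IsUnit (φR rw') := by
    have h1 : IsNilpotent (Ideal.Quotient.mk (Ideal.span {ε ^ 2}) (ε * vT w)) := ⟨2, by
      rw [← map_pow, Ideal.Quotient.eq_zero_iff_mem, mul_pow]
      exact Ideal.mul_mem_right _ _ (Ideal.mem_span_singleton_self _)⟩
    have h2 : φR rw' = Ideal.Quotient.mk (Ideal.span {ε ^ 2}) (algebraMap k T (P w)) + Ideal.Quotient.mk (Ideal.span {ε ^ 2}) (ε * vT w) := by
      show φP (MvPolynomial.X w) = _
      simp only [φP, AlgHom.comp_apply, MvPolynomial.aeval_X, pt, map_add]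
      rfl
    rw [h2]
    exact h1.isUnit_add_left_of_commute (((IsUnit.mk0 _ hPw).map (algebraMap k T)).map (Ideal.Quotient.mk _))
      ((Commute.all (ε * vT w) (algebraMap k T (P w))).map (Ideal.Quotient.mk (Ideal.span {ε ^ 2})))
  obtain ⟨φS, hφS⟩ := exists_away_lift (k := k) (R := MvPolynomial (Fin (n + 1) ⊕ Fin (n + 1)) k ⧸ Ideal.span {F, L})
    (T := T ⧸ Ideal.span {ε ^ 2}) rw' φR hunit
  obtain ⟨ψ, hψ⟩ := exists_jet_lift ε (N := Fintype.card k + 2) (by omega) φS
  let γ : MvPolynomial (Fin (n + 1) ⊕ Fin (n + 1)) k →ₐ[k] T ⧸ Ideal.span {ε ^ (Fintype.card k + 2)} :=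
    ψ.comp ((IsScalarTower.toAlgHom k _ (Localization.Away rw')).comp (Ideal.Quotient.mkₐ k (Ideal.span {F, L})))
  have hr : ∀ a, ∃ r : T, γ (MvPolynomial.X a) = Ideal.Quotient.mk _ (pt a + ε ^ 2 * r) := by
    intro a
    obtain ⟨t, ht⟩ := Ideal.Quotient.mk_surjective (γ (MvPolynomial.X a))
    have h1 := hψ _ t ht.symm
    have h2 : φS (algebraMap _ (Localization.Away rw') (Ideal.Quotient.mk (Ideal.span {F, L}) (MvPolynomial.X a))) =
        Ideal.Quotient.mk (Ideal.span {ε ^ 2}) (pt a) := by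
      rw [hφS]
      show φP (MvPolynomial.X a) = _
      simp [φP]
    have h3 : Ideal.Quotient.mk (Ideal.span {ε ^ 2}) t = Ideal.Quotient.mk _ (pt a) := h1.symm.trans h2
    obtain ⟨r, hr⟩ := Ideal.mem_span_singleton.mp (Ideal.Quotient.eq.mp h3)
    exact ⟨r, by rw [← ht, ← hr, add_sub_cancel]⟩
  choose r hr using hr
  have hγe : γ = (Ideal.Quotient.mkₐ k _).comp (MvPolynomial.aeval fun a => pt a + ε ^ 2 * r a) :=
    MvPolynomial.algHom_ext fun a => by simp [hr]
  have hγ0 : ∀ f ∈ Ideal.span {F, L}, γ f = 0 := fun f hf => by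
    simp only [γ, AlgHom.comp_apply, Ideal.Quotient.mkₐ_eq_mk, IsScalarTower.coe_toAlgHom']
    rw [Ideal.Quotient.eq_zero_iff_mem.mpr hf, map_zero, map_zero]
  obtain ⟨d, hd⟩ := jet_expansion ℓ ε F L hF c hL vT hvT r
  have h1 := hγ0 F (Ideal.subset_span (Set.mem_insert _ _))
  have h2 := hγ0 L (Ideal.subset_span (Set.mem_insert_of_mem _ rfl))
  rw [hγe, AlgHom.comp_apply, Ideal.Quotient.mkₐ_eq_mk, Ideal.Quotient.eq_zero_iff_mem] at h1 h2
  rw [show (fun a => pt a + ε ^ 2 * r a) =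
    fun a => algebraMap k T (P a) + ε * vT a + ε ^ 2 * r a from rfl, hd, add_assoc] at h1
  have h3 := (Ideal.add_mem_iff_right _ h2).mp h1
  have h4 : ε ^ (Fintype.card k + 2) * d ∈ Ideal.span {ε ^ (Fintype.card k + 2)} :=
    Ideal.mul_mem_right _ _ (Ideal.mem_span_singleton_self _)
  have h5 := Ideal.mem_span_singleton.mp ((Ideal.add_mem_iff_left _ h4).mp h3)
  have h5' : (Polynomial.X : T) ^ (Fintype.card k + 2) ∣ (Polynomial.X : T) ^ (Fintype.card k + 1) *
      Polynomial.C (∑ a : Fin (n + 1), (v (Sum.inl a) * v (Sum.inr a) ^ Fintype.card k -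
        v (Sum.inr a) * v (Sum.inl a) ^ Fintype.card k)) := by
    refine h5.trans (dvd_of_eq ?_)
    simp only [ε, vT, map_sum, map_sub, map_mul, map_pow]
  rw [Polynomial.X_pow_dvd_iff] at h5'
  have h6 := h5' (Fintype.card k + 1) (by omega)
  rw [Polynomial.coeff_X_pow_mul', if_pos le_rfl, Nat.sub_self, Polynomial.coeff_C_zero] at h6
  exact hFv h6

end Groth.Agent.H27Zeta.TangentHyp
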